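import Mathlib
import Cfsg.Prelude.Def_OddOrderChar
import Cfsg.Agent.CharBasics.Ortho
import Cfsg.Agent.CharBasics.Induced

/-! Virtual characters in coordinates with respect to the irreducible characters; small norms. -/

set_option autoImplicit false

namespace CfsgLib.Exceptional

open CfsgLib.CharBasics
open scoped ComplexConjugate

universe u

variable {G : Type u} [Group G]

theorem irr_isClassFunction {χ : G → ℂ} (h : Cfsg.IsIrrCharacter G χ) : Cfsg.IsClassFunction G χ :=
  CharBasics.isClassFunction (isCharacter_of_irr h)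

theorem gen_isClassFunction {θ : G → ℂ} (h : Cfsg.IsGeneralizedCharacter G θ) : Cfsg.IsClassFunction G θ := by
  obtain ⟨χ, ψ, hχ, hψ, rfl⟩ := h
  intro g x
  simp [CharBasics.isClassFunction hχ g x, CharBasics.isClassFunction hψ g x]

theorem gen_of_character {χ : G → ℂ} (h : Cfsg.IsCharacter G χ) : Cfsg.IsGeneralizedCharacter G χ :=
  ⟨χ, 0, h, isCharacter_zero, (sub_zero χ).symm⟩

theorem gen_zero : Cfsg.IsGeneralizedCharacter G (0 : G → ℂ) := gen_of_character isCharacter_zero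

theorem gen_sub {θ η : G → ℂ} (h : Cfsg.IsGeneralizedCharacter G θ) (h' : Cfsg.IsGeneralizedCharacter G η) :
    Cfsg.IsGeneralizedCharacter G (θ - η) := by
  obtain ⟨a, b, ha, hb, rfl⟩ := h
  obtain ⟨c, d, hc, hd, rfl⟩ := h'
  exact ⟨a + d, b + c, isCharacter_add ha hd, isCharacter_add hb hc, by abel⟩

theorem gen_add {θ η : G → ℂ} (h : Cfsg.IsGeneralizedCharacter G θ) (h' : Cfsg.IsGeneralizedCharacter G η) :
    Cfsg.IsGeneralizedCharacter G (θ + η) := by
  simpa using gen_sub h (gen_sub gen_zero h')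

theorem gen_nsmul {θ : G → ℂ} (h : Cfsg.IsGeneralizedCharacter G θ) (k : ℕ) :
    Cfsg.IsGeneralizedCharacter G (k • θ) := by
  induction k with
  | zero => simpa using gen_zero
  | succ k ih => rw [succ_nsmul]; exact gen_add ih h

theorem gen_zsmul {θ : G → ℂ} (h : Cfsg.IsGeneralizedCharacter G θ) (k : ℤ) :
    Cfsg.IsGeneralizedCharacter G (k • θ) := by
  rcases k with k | k
  · simpa using gen_nsmul h k
  · rw [negSucc_zsmul, ← zero_sub]
    exact gen_sub gen_zero (gen_nsmul h (k + 1))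

theorem gen_sum {ι : Type*} (s : Finset ι) (f : ι → G → ℂ)
    (h : ∀ i ∈ s, Cfsg.IsGeneralizedCharacter G (f i)) : Cfsg.IsGeneralizedCharacter G (∑ i ∈ s, f i) := by
  classical
  induction s using Finset.induction_on with
  | empty => simpa using gen_zero
  | insert a s ha ih =>
    rw [Finset.sum_insert ha]
    exact gen_add (h a (Finset.mem_insert_self _ _)) (ih fun i hi => h i (Finset.mem_insert_of_mem hi))

section Fin
variable [Fintype G]

theorem classInner_sub_left (a b ψ : G → ℂ) :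
    Cfsg.classInner (a - b) ψ = Cfsg.classInner a ψ - Cfsg.classInner b ψ := by
  simp [classInner_eq, sub_mul, Finset.sum_sub_distrib, mul_sub]

theorem classInner_sub_right (a b ψ : G → ℂ) :
    Cfsg.classInner ψ (a - b) = Cfsg.classInner ψ a - Cfsg.classInner ψ b := by
  simp [classInner_eq, mul_sub, Finset.sum_sub_distrib]

theorem classInner_smul_right (c : ℂ) (φ ψ : G → ℂ) :
    Cfsg.classInner φ (c • ψ) = conj c * Cfsg.classInner φ ψ := by
  simp [classInner_eq, Finset.mul_sum, mul_left_comm]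

theorem classInner_zsmul_left (c : ℤ) (φ ψ : G → ℂ) :
    Cfsg.classInner (c • φ) ψ = (c : ℂ) * Cfsg.classInner φ ψ := by
  rw [← Int.cast_smul_eq_zsmul ℂ, classInner_smul_left]

theorem classInner_zsmul_right (c : ℤ) (φ ψ : G → ℂ) :
    Cfsg.classInner φ (c • ψ) = (c : ℂ) * Cfsg.classInner φ ψ := by
  rw [← Int.cast_smul_eq_zsmul ℂ, classInner_smul_right, map_intCast]

theorem gen_inner_int {θ : G → ℂ} (h : Cfsg.IsGeneralizedCharacter G θ) (ψ : Cfsg.IrrCharacter G) :
    ∃ m : ℤ, Cfsg.classInner θ (ψ : G → ℂ) = m := by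
  obtain ⟨a, b, ha, hb, rfl⟩ := h
  obtain ⟨m, hm⟩ := classInner_character_nat ha ψ
  obtain ⟨n, hn⟩ := classInner_character_nat hb ψ
  exact ⟨(m : ℤ) - n, by rw [classInner_sub_left, hm, hn]; push_cast; rfl⟩

/-- Coordinates of a virtual character. -/
theorem gen_coeff [Fintype (Cfsg.IrrCharacter G)] {θ : G → ℂ} (h : Cfsg.IsGeneralizedCharacter G θ) :
    ∃ n : Cfsg.IrrCharacter G → ℤ, (∀ χ : Cfsg.IrrCharacter G, Cfsg.classInner θ (χ : G → ℂ) = n χ) ∧
      θ = ∑ χ : Cfsg.IrrCharacter G, (n χ : ℂ) • (χ : G → ℂ) ∧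
      Cfsg.classInner θ θ = ((∑ χ : Cfsg.IrrCharacter G, n χ ^ 2 : ℤ) : ℂ) := by
  choose n hn using gen_inner_int h
  have hexp : θ = ∑ χ : Cfsg.IrrCharacter G, (n χ : ℂ) • (χ : G → ℂ) := by
    conv_lhs => rw [classFun_expand (gen_isClassFunction h)]
    exact Finset.sum_congr rfl fun χ _ => by rw [hn]
  refine ⟨n, hn, hexp, ?_⟩
  conv_lhs => arg 2; rw [hexp]
  rw [classInner_sum_right, Int.cast_sum]
  refine Finset.sum_congr rfl fun χ _ => ?_
  rw [classInner_smul_right, hn, map_intCast]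
  push_cast; ring

theorem gen_of_inner_int {θ : G → ℂ} (hθ : Cfsg.IsClassFunction G θ)
    (h : ∀ ψ : Cfsg.IrrCharacter G, ∃ m : ℤ, Cfsg.classInner θ (ψ : G → ℂ) = m) :
    Cfsg.IsGeneralizedCharacter G θ := by
  classical
  have := finite_irrCharacter (G := G)
  have := Fintype.ofFinite (Cfsg.IrrCharacter G)
  choose m hm using h
  rw [classFun_expand hθ]
  refine gen_sum _ _ fun χ _ => ?_
  rw [hm, Int.cast_smul_eq_zsmul]
  exact gen_zsmul (gen_of_character (isCharacter_of_irr χ.2)) _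

theorem gen_indFun (H : Subgroup G) {θ : H → ℂ} (hθ : Cfsg.IsGeneralizedCharacter H θ) :
    Cfsg.IsGeneralizedCharacter G (Cfsg.indFun H θ) := by
  have := Fintype.ofFinite H
  refine gen_of_inner_int (isClassFunction_indFun H θ) fun ψ => ?_
  rw [classInner_indFun H θ (irr_isClassFunction ψ.2)]
  obtain ⟨a, b, ha, hb, rfl⟩ := hθ
  obtain ⟨m, hm⟩ := classInner_characters_nat ha (isCharacter_restrict (isCharacter_of_irr ψ.2) H)
  obtain ⟨n, hn⟩ := classInner_characters_nat hb (isCharacter_restrict (isCharacter_of_irr ψ.2) H)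
  exact ⟨(m : ℤ) - n, by rw [classInner_sub_left, hm, hn]; push_cast; rfl⟩

theorem degree_eq (χ : Cfsg.IrrCharacter G) : ∃ d : ℕ, 0 < d ∧ (χ : G → ℂ) 1 = d :=
  ⟨_, charDegree_pos χ.2, apply_one (isCharacter_of_irr χ.2)⟩

theorem irr_ne_neg {a b : G → ℂ} (ha : Cfsg.IsIrrCharacter G a) (hb : Cfsg.IsIrrCharacter G b) : a ≠ -b := by
  intro h
  obtain ⟨d, hd, hd'⟩ := degree_eq (⟨a, ha⟩ : Cfsg.IrrCharacter G)
  obtain ⟨e, he, he'⟩ := degree_eq (⟨b, hb⟩ : Cfsg.IrrCharacter G)
  have := congrFun h 1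
  simp only [Pi.neg_apply] at this
  simp only at hd' he'
  rw [hd', he', eq_neg_iff_add_eq_zero] at this
  norm_cast at this
  omega

/-- A virtual character of norm one is an irreducible character up to sign. -/
theorem norm_one_cases {θ : G → ℂ} (h : Cfsg.IsGeneralizedCharacter G θ) (h1 : Cfsg.classInner θ θ = 1) :
    Cfsg.IsIrrCharacter G θ ∨ Cfsg.IsIrrCharacter G (-θ) := by
  classical
  have := finite_irrCharacter (G := G)
  have := Fintype.ofFinite (Cfsg.IrrCharacter G)
  obtain ⟨n, _, hexp, hnorm⟩ := gen_coeff h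
  rw [h1] at hnorm
  have hs : ∑ χ : Cfsg.IrrCharacter G, n χ ^ 2 = 1 := by exact_mod_cast hnorm.symm
  obtain ⟨χ, hχ⟩ : ∃ χ, n χ ≠ 0 := by
    by_contra hc; push Not at hc; simp [hc] at hs
  have hrest : ∀ ψ, ψ ≠ χ → n ψ = 0 := by
    intro ψ hne
    by_contra hψ
    have h2 := Finset.sum_le_sum_of_subset_of_nonneg (Finset.subset_univ {χ, ψ}) (f := fun x => n x ^ 2)
      (fun x _ _ => sq_nonneg (n x))
    rw [Finset.sum_pair hne.symm, hs] at h2
    have ha : 0 < n χ ^ 2 := by positivity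
    have hb : 0 < n ψ ^ 2 := by positivity
    omega
  rw [Finset.sum_eq_single χ (fun ψ _ hne => by simp [hrest ψ hne]) (by simp)] at hs hexp
  rcases sq_eq_one_iff.1 hs with h' | h'
  · left; rw [hexp, h']; simpa using χ.2
  · right; rw [hexp, h']; simpa using χ.2

/-- A virtual character of norm two vanishing at `1` is a difference of two irreducible characters. -/
theorem norm_two_cases {θ : G → ℂ} (h : Cfsg.IsGeneralizedCharacter G θ) (h2 : Cfsg.classInner θ θ = 2)
    (hone : θ 1 = 0) : ∃ a b : Cfsg.IrrCharacter G, a ≠ b ∧ θ = (a : G → ℂ) - (b : G → ℂ) := by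
  classical
  have := finite_irrCharacter (G := G)
  have := Fintype.ofFinite (Cfsg.IrrCharacter G)
  obtain ⟨n, _, hexp, hnorm⟩ := gen_coeff h
  rw [h2] at hnorm
  have hs : ∑ χ : Cfsg.IrrCharacter G, n χ ^ 2 = 2 := by exact_mod_cast hnorm.symm
  set T := Finset.univ.filter fun χ : Cfsg.IrrCharacter G => n χ ≠ 0
  have hsT : ∑ χ ∈ T, n χ ^ 2 = 2 := by
    rw [← hs]; exact Finset.sum_subset (Finset.subset_univ _) fun x _ hx => by simp [T] at hx; simp [hx]
  have habs : ∀ χ ∈ T, n χ = 1 ∨ n χ = -1 := by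
    intro χ hχ
    have h3 := Finset.single_le_sum (f := fun x => n x ^ 2) (fun x _ => sq_nonneg (n x)) hχ
    rw [hsT] at h3
    have h0 : n χ ≠ 0 := by simpa [T] using hχ
    have h5 : -1 ≤ n χ ∧ n χ ≤ 1 := by constructor <;> nlinarith
    omega
  have hcard : T.card = 2 := by
    have : ∑ χ ∈ T, n χ ^ 2 = ∑ χ ∈ T, (1 : ℤ) := Finset.sum_congr rfl fun x hx => by
      rcases habs x hx with h' | h' <;> simp [h']
    rw [hsT] at this; simp at this; omega
  obtain ⟨a, b, hab, hT⟩ := Finset.card_eq_two.1 hcard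
  have hexp' : θ = (n a : ℂ) • (a : G → ℂ) + (n b : ℂ) • (b : G → ℂ) := by
    rw [hexp, ← Finset.sum_pair (f := fun x : Cfsg.IrrCharacter G => (n x : ℂ) • (x : G → ℂ)) hab, ← hT]
    exact (Finset.sum_subset (Finset.subset_univ _) fun x _ hx => by simp [T] at hx; simp [hx]).symm
  obtain ⟨d, hd, hd'⟩ := degree_eq a
  obtain ⟨e, he, he'⟩ := degree_eq b
  rw [hexp'] at hone
  simp only [Pi.add_apply, Pi.smul_apply, smul_eq_mul, hd', he'] at hone
  have hone' : n a * d + n b * e = 0 := by exact_mod_cast hone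
  rcases habs a (by simp [hT]) with ha | ha <;> rcases habs b (by simp [hT]) with hb | hb <;>
    rw [ha, hb] at hone'
  · omega
  · exact ⟨a, b, hab, by rw [hexp', ha, hb]; simp [sub_eq_add_neg]⟩
  · exact ⟨b, a, hab.symm, by rw [hexp', ha, hb]; simp [sub_eq_add_neg, add_comm]⟩
  · omega

/-- A virtual character of norm three vanishing at `1` with principal coefficient one. -/
theorem norm_three_cases {θ : G → ℂ} (h : Cfsg.IsGeneralizedCharacter G θ) (h3 : Cfsg.classInner θ θ = 3)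
    (hone : θ 1 = 0) (hprin : Cfsg.classInner θ (fun _ => 1) = 1) :
    ∃ a b : Cfsg.IrrCharacter G, (a : G → ℂ) ≠ (fun _ => 1) ∧ (b : G → ℂ) ≠ (fun _ => 1) ∧
      a ≠ b ∧ θ = (fun _ => 1) - (a : G → ℂ) + (b : G → ℂ) := by
  have hgen : Cfsg.IsGeneralizedCharacter G (θ - (fun _ => 1)) :=
    gen_sub h (gen_of_character (isCharacter_of_irr isIrrCharacter_one))
  classical
  have := finite_irrCharacter (G := G)
  have := Fintype.ofFinite (Cfsg.IrrCharacter G)
  obtain ⟨n, hn, hexp, hnorm⟩ := gen_coeff hgen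
  have h11 : Cfsg.classInner (fun _ => (1:ℂ)) (fun _ : G => (1:ℂ)) = 1 := classInner_self isIrrCharacter_one
  have h1θ : Cfsg.classInner (fun _ => (1:ℂ)) θ = 1 := by rw [classInner_comm θ, hprin]; simp
  have hzero : n (oneChar : Cfsg.IrrCharacter G) = 0 := by
    have := hn oneChar
    rw [classInner_sub_left] at this
    change Cfsg.classInner θ (fun _ => 1) - Cfsg.classInner (fun _ => (1:ℂ)) (fun _ => (1:ℂ)) = _ at this
    rw [hprin, h11, sub_self] at this
    exact_mod_cast this.symm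
  have hnn : Cfsg.classInner (θ - fun _ => 1) (θ - fun _ => 1) = 2 := by
    rw [classInner_sub_left, classInner_sub_right, classInner_sub_right, h3, hprin, h1θ, h11]; norm_num
  rw [hnn] at hnorm
  have hs : ∑ χ : Cfsg.IrrCharacter G, n χ ^ 2 = 2 := by exact_mod_cast hnorm.symm
  set T := Finset.univ.filter fun χ : Cfsg.IrrCharacter G => n χ ≠ 0
  have hsT : ∑ χ ∈ T, n χ ^ 2 = 2 := by
    rw [← hs]; exact Finset.sum_subset (Finset.subset_univ _) fun x _ hx => by simp [T] at hx; simp [hx]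
  have habs : ∀ χ ∈ T, n χ = 1 ∨ n χ = -1 := by
    intro χ hχ
    have h4 := Finset.single_le_sum (f := fun x => n x ^ 2) (fun x _ => sq_nonneg (n x)) hχ
    rw [hsT] at h4
    have h0 : n χ ≠ 0 := by simpa [T] using hχ
    have h5 : -1 ≤ n χ ∧ n χ ≤ 1 := by constructor <;> nlinarith
    omega
  have hcard : T.card = 2 := by
    have : ∑ χ ∈ T, n χ ^ 2 = ∑ χ ∈ T, (1 : ℤ) := Finset.sum_congr rfl fun x hx => by
      rcases habs x hx with h' | h' <;> simp [h']
    rw [hsT] at this; simp at this; omega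
  obtain ⟨a, b, hab, hT⟩ := Finset.card_eq_two.1 hcard
  have hexp' : θ = (fun _ => 1) + ((n a : ℂ) • (a : G → ℂ) + (n b : ℂ) • (b : G → ℂ)) := by
    rw [← Finset.sum_pair (f := fun x : Cfsg.IrrCharacter G => (n x : ℂ) • (x : G → ℂ)) hab, ← hT,
      Finset.sum_subset (Finset.subset_univ T) (fun x _ hx => by simp [T] at hx; simp [hx]), ← hexp]
    abel
  have hne : ∀ x ∈ T, (x : G → ℂ) ≠ (fun _ => 1) := by
    intro x hx hx'
    have : x = oneChar := Subtype.ext hx'
    simp [T, this, hzero] at hx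
  obtain ⟨d, hd, hd'⟩ := degree_eq a
  obtain ⟨e, he, he'⟩ := degree_eq b
  rw [hexp'] at hone
  simp only [Pi.add_apply, Pi.smul_apply, smul_eq_mul, hd', he'] at hone
  have hone' : 1 + (n a * d + n b * e) = 0 := by exact_mod_cast hone
  rcases habs a (by simp [hT]) with ha | ha <;> rcases habs b (by simp [hT]) with hb | hb <;>
    rw [ha, hb] at hone'
  · omega
  · exact ⟨b, a, hne b (by simp [hT]), hne a (by simp [hT]), hab.symm, by rw [hexp', ha, hb]; ext g; simp; ring⟩
  · exact ⟨a, b, hne a (by simp [hT]), hne b (by simp [hT]), hab, by rw [hexp', ha, hb]; ext g; simp; ring⟩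
  · omega

end Fin

end CfsgLib.Exceptional
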