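import Mathlib
import Cfsg.Prelude.Def_OddOrderChar
import Cfsg.Agent.Exceptional.Virtual
import Cfsg.Agent.Clifford.Basic

/-! Linear isometries on integer spans of orthogonal characters; a criterion for coherence. -/

set_option autoImplicit false

namespace CfsgLib.Exceptional

open CfsgLib.CharBasics
open scoped ComplexConjugate

universe u v

section Inner
variable {G : Type u} [Group G] [Fintype G]

theorem classInner_add_right (a b ψ : G → ℂ) :
    Cfsg.classInner ψ (a + b) = Cfsg.classInner ψ a + Cfsg.classInner ψ b := by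
  simp [classInner_eq, mul_add, Finset.sum_add_distrib]

theorem classInner_zero_l (ψ : G → ℂ) : Cfsg.classInner (0 : G → ℂ) ψ = 0 := Clifford.classInner_zero_left ψ

theorem classInner_zero_r (ψ : G → ℂ) : Cfsg.classInner ψ (0 : G → ℂ) = 0 := Clifford.classInner_zero_right ψ

theorem classInner_neg_left (a ψ : G → ℂ) : Cfsg.classInner (-a) ψ = -Cfsg.classInner a ψ := by
  rw [← zero_sub, classInner_sub_left, classInner_zero_l, zero_sub]

theorem classInner_neg_right (a ψ : G → ℂ) : Cfsg.classInner ψ (-a) = -Cfsg.classInner ψ a := by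
  rw [← zero_sub, classInner_sub_right, classInner_zero_r, zero_sub]

theorem classInner_self_eq (θ : G → ℂ) :
    Cfsg.classInner θ θ = (((Nat.card G : ℝ)⁻¹ * ∑ g, Complex.normSq (θ g) : ℝ) : ℂ) := by
  rw [classInner_eq]
  push_cast
  congr 1
  exact Finset.sum_congr rfl fun g _ => Complex.mul_conj (θ g)

theorem classInner_self_nonneg (θ : G → ℂ) : 0 ≤ (Cfsg.classInner θ θ).re := by
  rw [classInner_self_eq, Complex.ofReal_re]
  exact mul_nonneg (by positivity) (Finset.sum_nonneg fun g _ => Complex.normSq_nonneg _)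

theorem eq_zero_of_self_nonpos {θ : G → ℂ} (h : (Cfsg.classInner θ θ).re ≤ 0) : θ = 0 := by
  rw [classInner_self_eq, Complex.ofReal_re] at h
  have hc : (0 : ℝ) < (Nat.card G : ℝ)⁻¹ := inv_pos.2 (Nat.cast_pos.2 Nat.card_pos)
  have hs : ∑ g, Complex.normSq (θ g) ≤ 0 := nonpos_of_mul_nonpos_right (by linarith) hc
  have hz := (Finset.sum_eq_zero_iff_of_nonneg fun g _ => Complex.normSq_nonneg (θ g)).1
    (le_antisymm hs (Finset.sum_nonneg fun g _ => Complex.normSq_nonneg _))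
  funext g
  exact Complex.normSq_eq_zero.1 (hz g (Finset.mem_univ g))

theorem eq_zero_of_self {θ : G → ℂ} (h : Cfsg.classInner θ θ = 0) : θ = 0 :=
  eq_zero_of_self_nonpos (by simp [h])

theorem self_ne_zero {θ : G → ℂ} (h : θ ≠ 0) : Cfsg.classInner θ θ ≠ 0 := fun h' => h (eq_zero_of_self h')

theorem gen_inner_gen_int {θ η : G → ℂ} (h : Cfsg.IsGeneralizedCharacter G θ)
    (h' : Cfsg.IsGeneralizedCharacter G η) : ∃ m : ℤ, Cfsg.classInner θ η = m := by
  obtain ⟨a, b, ha, hb, rfl⟩ := h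
  obtain ⟨c, d, hc, hd, rfl⟩ := h'
  obtain ⟨m₁, h₁⟩ := classInner_characters_nat ha hc
  obtain ⟨m₂, h₂⟩ := classInner_characters_nat ha hd
  obtain ⟨m₃, h₃⟩ := classInner_characters_nat hb hc
  obtain ⟨m₄, h₄⟩ := classInner_characters_nat hb hd
  refine ⟨(m₁ : ℤ) - m₂ - (m₃ - m₄), ?_⟩
  rw [classInner_sub_left, classInner_sub_right, classInner_sub_right, h₁, h₂, h₃, h₄]
  push_cast; rfl

/-- Removing the projection on an orthonormal set of virtual characters. -/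
theorem proj_facts (R : Finset (G → ℂ)) [DecidableEq (G → ℂ)]
    (horth : ∀ α ∈ R, ∀ β ∈ R, Cfsg.classInner α β = if α = β then 1 else 0)
    (w : G → ℂ) (a : (G → ℂ) → ℤ) (ha : ∀ α ∈ R, Cfsg.classInner w α = a α) :
    Cfsg.classInner (w - ∑ α ∈ R, a α • α) (w - ∑ α ∈ R, a α • α)
      = Cfsg.classInner w w - ((∑ α ∈ R, a α ^ 2 : ℤ) : ℂ) ∧
    ∀ β ∈ R, Cfsg.classInner (w - ∑ α ∈ R, a α • α) β = 0 := by
  have hz : ∀ β ∈ R, Cfsg.classInner (w - ∑ α ∈ R, a α • α) β = 0 := by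
    intro β hβ
    rw [classInner_sub_left, classInner_sum_left, Finset.sum_eq_single β, classInner_zsmul_left, horth β hβ β hβ,
      if_pos rfl, mul_one, ha β hβ, sub_self]
    · intro α hα hne
      rw [classInner_zsmul_left, horth α hα β hβ, if_neg hne, mul_zero]
    · exact fun h => absurd hβ h
  refine ⟨?_, hz⟩
  have h0 : ∑ β ∈ R, Cfsg.classInner (w - ∑ α ∈ R, a α • α) (a β • β) = 0 :=
    Finset.sum_eq_zero fun β hβ => by rw [classInner_zsmul_right, hz β hβ, mul_zero]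
  rw [classInner_sub_right, classInner_sum_right, h0, sub_zero, classInner_sub_left, classInner_sum_left,
    Int.cast_sum]
  congr 1
  refine Finset.sum_congr rfl fun α hα => ?_
  rw [classInner_zsmul_left, classInner_comm w α, ha α hα, map_intCast]
  push_cast; ring

theorem inner_pair {a b c d : Cfsg.IrrCharacter G} [DecidableEq (Cfsg.IrrCharacter G)] :
    Cfsg.classInner ((a : G → ℂ) - (b : G → ℂ)) ((c : G → ℂ) - (d : G → ℂ))
      = ((((if a = c then 1 else 0) - (if a = d then 1 else 0)) -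
          ((if b = c then 1 else 0) - (if b = d then 1 else 0)) : ℤ) : ℂ) := by
  simp only [classInner_sub_left, classInner_sub_right, classInner_irr]
  push_cast
  ring

end Inner

section Conj
variable {L : Type u} [Group L]

theorem conjFun_conjFun (χ : L → ℂ) : Cfsg.conjFun (Cfsg.conjFun χ) = χ := by
  funext x; simp [Cfsg.conjFun]

theorem conjFun_apply_one [Finite L] {χ : L → ℂ} (h : Cfsg.IsCharacter L χ) : Cfsg.conjFun χ 1 = χ 1 := by
  simp [Cfsg.conjFun, apply_one h]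

theorem classInner_conjFun' [Fintype L] (φ ψ : L → ℂ) :
    Cfsg.classInner (Cfsg.conjFun φ) (Cfsg.conjFun ψ) = conj (Cfsg.classInner φ ψ) := by
  simp [classInner_eq, Cfsg.conjFun]

end Conj

/-- The integer combinations vanishing off `A`, as a submodule. -/
def onSub {X : Type u} (S : Set (X → ℂ)) (A : Set X) : Submodule ℤ (X → ℂ) where
  carrier := Cfsg.zspanOn S A
  add_mem' := fun ha hb => ⟨add_mem (S := Submodule ℤ (X → ℂ)) ha.1 hb.1, fun x hx => by
    simp [ha.2 x hx, hb.2 x hx]⟩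
  zero_mem' := ⟨zero_mem (Submodule.span ℤ S), fun _ _ => rfl⟩
  smul_mem' := fun c _ ha => ⟨Submodule.smul_mem (Submodule.span ℤ S) c ha.1, fun x hx => by simp [ha.2 x hx]⟩

theorem mem_on_one {L : Type u} [Group L] {S : Set (L → ℂ)} {α : L → ℂ} :
    α ∈ Cfsg.zspanOn S ({1}ᶜ : Set L) ↔ α ∈ Cfsg.zspan S ∧ α 1 = 0 :=
  ⟨fun h => ⟨h.1, h.2 1 (by simp)⟩, fun h => ⟨h.1, fun x hx => by
    simp only [Set.mem_compl_iff, Set.mem_singleton_iff, not_not] at hx
    rw [hx]; exact h.2⟩⟩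

theorem zspan_mono {X : Type u} {S T : Set (X → ℂ)} (h : S ⊆ T) : Cfsg.zspan S ⊆ Cfsg.zspan T :=
  Submodule.span_mono h

theorem zspanOn_mono {X : Type u} {S T : Set (X → ℂ)} (h : S ⊆ T) (A : Set X) :
    Cfsg.zspanOn S A ⊆ Cfsg.zspanOn T A :=
  fun _ ha => ⟨zspan_mono h ha.1, ha.2⟩

section Isometry
variable {L : Type u} [Group L] [Fintype L] {G : Type v} [Group G] [Fintype G]
variable {E : Submodule ℤ (L → ℂ)} {τ : (L → ℂ) → (G → ℂ)}

theorem iso_zero (h : Cfsg.IsLinearIsometryOn (E : Set (L → ℂ)) τ) : τ 0 = 0 := by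
  have := h.2.1 0 E.zero_mem 0
  simpa using this

theorem iso_sub (h : Cfsg.IsLinearIsometryOn (E : Set (L → ℂ)) τ) {a b : L → ℂ} (ha : a ∈ E) (hb : b ∈ E) :
    τ (a - b) = τ a - τ b := by
  rw [eq_sub_iff_add_eq, ← h.1 _ (sub_mem ha hb) _ hb, sub_add_cancel]

theorem iso_sum (h : Cfsg.IsLinearIsometryOn (E : Set (L → ℂ)) τ) {ι : Type*} (s : Finset ι)
    (f : ι → L → ℂ) (hf : ∀ i ∈ s, f i ∈ E) : τ (∑ i ∈ s, f i) = ∑ i ∈ s, τ (f i) := by
  classical
  induction s using Finset.induction_on with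
  | empty => simpa using iso_zero h
  | insert a s ha ih =>
    rw [Finset.sum_insert ha, Finset.sum_insert ha, h.1 _ (hf a (Finset.mem_insert_self _ _)) _
      (sum_mem fun i hi => hf i (Finset.mem_insert_of_mem hi)), ih fun i hi => hf i (Finset.mem_insert_of_mem hi)]

theorem iso_zsmul (h : Cfsg.IsLinearIsometryOn (E : Set (L → ℂ)) τ) {a : L → ℂ} (ha : a ∈ E) (n : ℤ) :
    τ (n • a) = n • τ a := h.2.1 a ha n

omit [Group L] [Fintype L] in
theorem coe_span (S : Set (L → ℂ)) : ((Submodule.span ℤ S : Submodule ℤ (L → ℂ)) : Set (L → ℂ)) = Cfsg.zspan S := rfl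

end Isometry

section Ortho
variable {L : Type u} [Group L] [Fintype L]

/-- Pairwise orthogonality with nonzero norms. -/
structure OrthoSet (S : Set (L → ℂ)) : Prop where
  orth : ∀ χ ∈ S, ∀ φ ∈ S, χ ≠ φ → Cfsg.classInner χ φ = 0
  norm_ne : ∀ χ ∈ S, Cfsg.classInner χ χ ≠ 0

theorem OrthoSet.of_irr {S : Set (L → ℂ)} (h : ∀ χ ∈ S, Cfsg.IsIrrCharacter L χ) : OrthoSet S :=
  ⟨fun χ hχ φ hφ hne => classInner_ne (h χ hχ) (h φ hφ) hne, fun χ hχ => by
    rw [classInner_self (h χ hχ)]; exact one_ne_zero⟩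

theorem OrthoSet.mono {S T : Set (L → ℂ)} (h : OrthoSet S) (hT : T ⊆ S) : OrthoSet T :=
  ⟨fun χ hχ φ hφ => h.orth χ (hT hχ) φ (hT hφ), fun χ hχ => h.norm_ne χ (hT hχ)⟩

theorem OrthoSet.finite {S : Set (L → ℂ)} (h : OrthoSet S) : S.Finite := by
  refine LinearIndependent.setFinite (R := ℂ) ?_
  rw [linearIndependent_iff']
  intro s g hg i hi
  have h1 := congrArg (fun f => Cfsg.classInner f (i : L → ℂ)) hg
  simp only [classInner_sum_left, classInner_zero_l] at h1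
  rw [Finset.sum_eq_single i, classInner_smul_left] at h1
  · exact (mul_eq_zero.1 h1).resolve_right (h.norm_ne _ i.2)
  · intro j _ hj
    rw [classInner_smul_left, h.orth _ j.2 _ i.2 (fun e => hj (Subtype.ext e)), mul_zero]
  · exact fun hh => absurd hi hh

theorem classInner_combination {S : Finset (L → ℂ)} (h : OrthoSet (↑S : Set (L → ℂ))) (c : (L → ℂ) → ℤ)
    {χ : L → ℂ} (hχ : χ ∈ S) :
    Cfsg.classInner (∑ φ ∈ S, c φ • φ) χ = (c χ : ℂ) * Cfsg.classInner χ χ := by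
  rw [classInner_sum_left, Finset.sum_eq_single χ, classInner_zsmul_left]
  · intro φ hφ hne
    rw [classInner_zsmul_left, h.orth φ hφ χ hχ hne, mul_zero]
  · exact fun hh => absurd hχ hh

theorem exists_coeff {S : Finset (L → ℂ)} {θ : L → ℂ} (hθ : θ ∈ Cfsg.zspan (↑S : Set (L → ℂ))) :
    ∃ c : (L → ℂ) → ℤ, θ = ∑ φ ∈ S, c φ • φ := by
  obtain ⟨f, -, hf⟩ := (Submodule.mem_span_finset.1 hθ)
  exact ⟨f, hf.symm⟩

/-- The linear extension of `v` on an orthogonal set. -/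
noncomputable def extLin {G : Type v} (S : Finset (L → ℂ)) (v : (L → ℂ) → (G → ℂ)) (θ : L → ℂ) : G → ℂ :=
  ∑ χ ∈ S, (Cfsg.classInner θ χ / Cfsg.classInner χ χ) • v χ

theorem extLin_combination {G : Type v} {S : Finset (L → ℂ)} (h : OrthoSet (↑S : Set (L → ℂ)))
    (v : (L → ℂ) → (G → ℂ)) (c : (L → ℂ) → ℤ) :
    extLin S v (∑ φ ∈ S, c φ • φ) = ∑ φ ∈ S, c φ • v φ := by
  refine Finset.sum_congr rfl fun χ hχ => ?_
  rw [classInner_combination h c hχ, mul_div_assoc, div_self (h.norm_ne χ hχ), mul_one, Int.cast_smul_eq_zsmul]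

theorem extLin_apply {G : Type v} {S : Finset (L → ℂ)} (h : OrthoSet (↑S : Set (L → ℂ)))
    (v : (L → ℂ) → (G → ℂ)) {χ : L → ℂ} (hχ : χ ∈ S) : extLin S v χ = v χ := by
  classical
  have e : χ = ∑ φ ∈ S, (if φ = χ then (1 : ℤ) else 0) • φ := by simp [hχ]
  conv_lhs => rw [e]
  rw [extLin_combination h]
  simp [hχ]

variable {G : Type v} [Group G] [Fintype G]

theorem extLin_isometry {S : Finset (L → ℂ)} (h : OrthoSet (↑S : Set (L → ℂ))) (v : (L → ℂ) → (G → ℂ))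
    (hgen : ∀ χ ∈ S, Cfsg.IsGeneralizedCharacter G (v χ))
    (hinner : ∀ χ ∈ S, ∀ φ ∈ S, Cfsg.classInner (v χ) (v φ) = Cfsg.classInner χ φ) :
    Cfsg.IsLinearIsometryOn (Cfsg.zspan (↑S : Set (L → ℂ))) (extLin S v) := by
  refine ⟨fun a ha b hb => ?_, fun a ha n => ?_, fun a ha b hb => ?_, fun a ha => ?_⟩
  · obtain ⟨c, rfl⟩ := exists_coeff ha
    obtain ⟨d, rfl⟩ := exists_coeff hb
    rw [← Finset.sum_add_distrib, Finset.sum_congr rfl (fun φ _ => (add_smul (c φ) (d φ) φ).symm),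
      extLin_combination h, extLin_combination h, extLin_combination h, ← Finset.sum_add_distrib]
    exact Finset.sum_congr rfl fun φ _ => add_smul _ _ _
  · obtain ⟨c, rfl⟩ := exists_coeff ha
    rw [Finset.smul_sum, Finset.sum_congr rfl (fun φ _ => smul_smul n (c φ) φ),
      extLin_combination h, extLin_combination h, Finset.smul_sum]
    exact Finset.sum_congr rfl fun φ _ => (smul_smul _ _ _).symm
  · obtain ⟨c, rfl⟩ := exists_coeff ha
    obtain ⟨d, rfl⟩ := exists_coeff hb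
    rw [extLin_combination h, extLin_combination h]
    simp only [classInner_sum_left, classInner_sum_right, classInner_zsmul_left, classInner_zsmul_right]
    refine Finset.sum_congr rfl fun φ hφ => ?_
    congr 1
    refine Finset.sum_congr rfl fun ψ hψ => ?_
    rw [hinner ψ hψ φ hφ]
  · obtain ⟨c, rfl⟩ := exists_coeff ha
    rw [extLin_combination h]
    exact gen_sum _ _ fun φ hφ => gen_zsmul (hgen φ hφ) _

/-- A coherence criterion: it suffices to match `τ` on the members `d χ₀ • χ - d χ • χ₀`. -/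
theorem coherent_of {S : Finset (L → ℂ)} (h : OrthoSet (↑S : Set (L → ℂ))) (d : (L → ℂ) → ℕ)
    (hd : ∀ χ ∈ S, χ 1 = (d χ : ℂ)) {χ₀ : L → ℂ} (h₀ : χ₀ ∈ S) (hd₀ : d χ₀ ≠ 0) (htwo : ∃ χ ∈ S, χ ≠ χ₀)
    (τ : (L → ℂ) → (G → ℂ)) (hτ : Cfsg.IsLinearIsometryOn (Cfsg.zspanOn (↑S : Set (L → ℂ)) {1}ᶜ) τ)
    (v : (L → ℂ) → (G → ℂ)) (hgen : ∀ χ ∈ S, Cfsg.IsGeneralizedCharacter G (v χ))
    (hinner : ∀ χ ∈ S, ∀ φ ∈ S, Cfsg.classInner (v χ) (v φ) = Cfsg.classInner χ φ)
    (hagree : ∀ χ ∈ S, χ ≠ χ₀ → τ ((d χ₀ : ℤ) • χ - (d χ : ℤ) • χ₀) = (d χ₀ : ℤ) • v χ - (d χ : ℤ) • v χ₀) :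
    Cfsg.IsCoherent (↑S : Set (L → ℂ)) {1}ᶜ τ := by
  classical
  have hmem : ∀ χ ∈ S, (d χ₀ : ℤ) • χ - (d χ : ℤ) • χ₀ ∈ onSub (↑S : Set (L → ℂ)) {1}ᶜ := by
    intro χ hχ
    refine mem_on_one.2 ⟨sub_mem (S := Submodule ℤ (L → ℂ)) (Submodule.smul_mem _ _ (Submodule.subset_span hχ))
      (Submodule.smul_mem _ _ (Submodule.subset_span h₀)), ?_⟩
    simp [hd χ hχ, hd χ₀ h₀, mul_comm]
  refine ⟨?_, extLin S v, extLin_isometry h v hgen hinner, fun θ hθ => ?_⟩
  · obtain ⟨χ, hχ, hne⟩ := htwo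
    refine ⟨_, hmem χ hχ, fun h0 => ?_⟩
    have h1 := congrArg (fun f => Cfsg.classInner f χ) h0
    simp only [classInner_sub_left, classInner_zsmul_left, classInner_zero_l, h.orth χ₀ h₀ χ hχ hne.symm,
      mul_zero, sub_zero, mul_eq_zero, h.norm_ne χ hχ, or_false, Int.cast_natCast, Nat.cast_eq_zero] at h1
    exact hd₀ h1
  · obtain ⟨hspan, h1⟩ := mem_on_one.1 hθ
    obtain ⟨c, rfl⟩ := exists_coeff hspan
    have hsum : ∑ φ ∈ S, c φ * (d φ : ℤ) = 0 := by
      have h2 : ((∑ φ ∈ S, c φ * (d φ : ℤ) : ℤ) : ℂ) = 0 := by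
        rw [← h1, Finset.sum_apply]
        push_cast
        exact Finset.sum_congr rfl fun φ hφ => by simp [hd φ hφ]
      exact_mod_cast h2
    have hkey : (d χ₀ : ℤ) • ∑ φ ∈ S, c φ • φ
        = ∑ φ ∈ S, c φ • ((d χ₀ : ℤ) • φ - (d φ : ℤ) • χ₀) := by
      simp only [smul_sub, Finset.smul_sum, smul_smul, Finset.sum_sub_distrib, ← Finset.sum_smul, hsum, zero_smul,
        sub_zero]
      exact Finset.sum_congr rfl fun φ _ => by rw [mul_comm]
    have hkey' : (d χ₀ : ℤ) • ∑ φ ∈ S, c φ • v φ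
        = ∑ φ ∈ S, c φ • ((d χ₀ : ℤ) • v φ - (d φ : ℤ) • v χ₀) := by
      simp only [smul_sub, Finset.smul_sum, smul_smul, Finset.sum_sub_distrib, ← Finset.sum_smul, hsum, zero_smul,
        sub_zero]
      exact Finset.sum_congr rfl fun φ _ => by rw [mul_comm]
    have hz : (d χ₀ : ℤ) ≠ 0 := by exact_mod_cast hd₀
    refine smul_right_injective (G → ℂ) hz ?_
    show (d χ₀ : ℤ) • extLin S v _ = (d χ₀ : ℤ) • τ _
    rw [extLin_combination h, hkey', ← iso_zsmul (E := onSub (↑S : Set (L → ℂ)) {1}ᶜ) hτ hθ, hkey,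
      iso_sum (E := onSub (↑S : Set (L → ℂ)) {1}ᶜ) hτ _ _ (fun φ hφ => Submodule.smul_mem _ _ (hmem φ hφ))]
    refine Finset.sum_congr rfl fun φ hφ => ?_
    rw [iso_zsmul (E := onSub (↑S : Set (L → ℂ)) {1}ᶜ) hτ (hmem φ hφ)]
    by_cases he : φ = χ₀
    · subst he; rw [sub_self, sub_self, iso_zero (E := onSub (↑S : Set (L → ℂ)) {1}ᶜ) hτ]
    · rw [hagree φ hφ he]

end Ortho

end CfsgLib.Exceptional
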