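import Mathlib
import Cfsg.Agent.S0895
import Cfsg.Agent.CharBasics.Central
import Cfsg.Agent.Exceptional.Coherence

/-! Complex conjugates of irreducible characters; groups of odd order have no real non-principal one. -/

set_option autoImplicit false

namespace CfsgLib.Exceptional

open CfsgLib.CharBasics
open scoped ComplexConjugate

universe u

variable {G : Type u} [Group G]

theorem irr_conjFun [Finite G] {χ : G → ℂ} (h : Cfsg.IsIrrCharacter G χ) : Cfsg.IsIrrCharacter G (Cfsg.conjFun χ) := by
  haveI := Fintype.ofFinite G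
  refine isIrr_of_norm_one (isCharacter_star (isCharacter_of_irr h)) ?_
  show Cfsg.classInner (Cfsg.conjFun χ) (Cfsg.conjFun χ) = 1
  rw [classInner_conjFun', classInner_self h, map_one]

theorem conjFun_ne_of_odd [Finite G] (hodd : Odd (Nat.card G)) {χ : G → ℂ} (h : Cfsg.IsIrrCharacter G χ)
    (hne : χ ≠ fun _ => 1) : Cfsg.conjFun χ ≠ χ := by
  intro hreal
  haveI := Fintype.ofFinite G
  have him : ∀ g : G, (χ g).im = 0 := fun g => Complex.conj_eq_iff_im.1 (congrFun hreal g)
  have hd := Cfsg.Agent.S0895.result χ h him (Cfsg.charDegree χ) (apply_one (isCharacter_of_irr h))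
    (hodd.of_dvd_nat (degree_dvd ⟨χ, h⟩))
  have hbij : Function.Bijective (fun s : G => s * s) := by
    have hp := (powCoprime (G := G) (n := 2) (Nat.coprime_two_right.2 hodd)).bijective
    have e : (fun s : G => s * s) = fun s : G => s ^ 2 := funext fun s => (sq s).symm
    rw [e]; exact hp
  rw [hbij.sum_comp χ, sum_irr_eq_zero h hne, mul_zero] at hd
  exact zero_ne_one hd

end CfsgLib.Exceptional
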