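import Mathlib
import Cfsg.Prelude.Def_Transfer
import Cfsg.Agent.SylowConj.Basic
import Cfsg.Agent.Transfer.Residual

/-! A generalized quaternion Sylow 2-subgroup of order at least 16 and the local structure at its derived group. -/

set_option autoImplicit false

namespace CfsgLib.Exceptional

open Subgroup
open scoped commutatorElement

/-- A group with a cyclic Sylow 2-subgroup has a normal odd-order complement to it. -/
theorem two_residual_of_isCyclic {X : Type*} [Group X] [Finite X] (P : Sylow 2 X) (hP : IsCyclic P) :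
    Odd (Nat.card (Cfsg.pResidual 2 X)) ∧ (Cfsg.pResidual 2 X).IsComplement' (P : Subgroup X) := by
  classical
  haveI : Fact (Nat.Prime 2) := ⟨Nat.prime_two⟩
  by_cases hX : 2 ∣ Nat.card X
  · have hmin : (Nat.card X).minFac = 2 :=
      le_antisymm (Nat.minFac_le_of_dvd le_rfl hX) (Nat.minFac_prime (by
        intro h; rw [h] at hX; omega)).two_le
    have hc := IsCyclic.isComplement' hmin hP
    set K := (MonoidHom.transferSylow P (hP.normalizer_le_centralizer hmin)).ker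
    have hodd : Odd (Nat.card K) := by
      rw [← hc.index_eq_card, ← Nat.not_even_iff_odd, even_iff_two_dvd]
      exact P.not_dvd_index
    have hle : Cfsg.pResidual 2 X ≤ K := by
      apply CfsgLib.Transfer.pResidual_le_of_isPGroup_quotient
      obtain ⟨k, hk⟩ := P.2.exists_card_eq
      exact IsPGroup.of_card (n := k) (by rw [← index_eq_card, hc.symm.index_eq_card, hk])
    have heq : Cfsg.pResidual 2 X = K := le_antisymm hle fun x hx => by
      apply CfsgLib.Transfer.mem_pResidual_of_coprime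
      rw [Nat.coprime_comm, Nat.Prime.coprime_iff_not_dvd Nat.prime_two, ← even_iff_two_dvd, Nat.not_even_iff_odd]
      exact hodd.of_dvd_nat (orderOf_dvd_natCard K hx)
    rw [heq]; exact ⟨hodd, hc⟩
  · have hodd : Odd (Nat.card X) := by rwa [← Nat.not_even_iff_odd, even_iff_two_dvd]
    have heq : Cfsg.pResidual 2 X = ⊤ := eq_top_iff.2 fun x _ => by
      apply CfsgLib.Transfer.mem_pResidual_of_coprime
      rw [Nat.coprime_comm, Nat.Prime.coprime_iff_not_dvd Nat.prime_two, ← even_iff_two_dvd, Nat.not_even_iff_odd]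
      exact hodd.of_dvd_nat (orderOf_dvd_natCard x)
    have hbot : (P : Subgroup X) = ⊥ := by
      obtain ⟨k, hk⟩ := P.2.exists_card_eq
      rcases Nat.eq_zero_or_pos k with h0 | h0
      · exact Subgroup.eq_bot_of_card_eq _ (by rw [hk, h0, pow_zero])
      · exact absurd ((dvd_pow_self 2 h0.ne').trans (hk ▸ card_subgroup_dvd_card _)) hX
    rw [heq, hbot, Subgroup.card_top]
    exact ⟨hodd, isComplement'_top_bot⟩

/-- Coordinates for a generalized quaternion Sylow 2-subgroup of order `2 ^ (k + 2)`, `k ≥ 2`. -/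
structure QuatData {G : Type*} [Group G] (S : Sylow 2 G) (k : ℕ) where
  a : G
  b : G
  ha : a ∈ S
  hb : b ∈ S
  orderOf_a : orderOf a = 2 ^ (k + 1)
  conj : b * a * b⁻¹ = a⁻¹
  sq : b * b = a ^ (2 ^ k)
  cases : ∀ x ∈ S, x ∈ zpowers a ∨ b⁻¹ * x ∈ zpowers a
  hk : 2 ≤ k

theorem exists_quatData {G : Type*} [Group G] (S : Sylow 2 G) (n : ℕ)
    (e : (S : Subgroup G) ≃* QuaternionGroup (2 ^ (n + 2))) : Nonempty (QuatData S (n + 2)) := by
  haveI : NeZero (2 ^ (n + 2)) := ⟨by positivity⟩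
  refine ⟨⟨e.symm (QuaternionGroup.a 1), e.symm (QuaternionGroup.xa 0), SetLike.coe_mem _, SetLike.coe_mem _,
    ?_, ?_, ?_, ?_, by omega⟩⟩
  · rw [Subgroup.orderOf_coe, MulEquiv.orderOf_eq, QuaternionGroup.orderOf_a_one]; ring
  · rw [← Subgroup.coe_inv, ← Subgroup.coe_mul, ← Subgroup.coe_mul, ← Subgroup.coe_inv, ← map_inv, ← map_mul,
      ← map_mul, ← map_inv]
    congr 2
    rw [mul_inv_eq_iff_eq_mul]
    show QuaternionGroup.xa 0 * QuaternionGroup.a 1 = QuaternionGroup.a (-1) * QuaternionGroup.xa 0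
    rw [QuaternionGroup.xa_mul_a, QuaternionGroup.a_mul_xa]
    simp
  · rw [← Subgroup.coe_pow, ← Subgroup.coe_mul, ← map_pow, ← map_mul, ← sq, QuaternionGroup.xa_sq,
      QuaternionGroup.a_one_pow]
  · intro x hx
    obtain ⟨y, hy⟩ : ∃ y, e.symm y = ⟨x, hx⟩ := ⟨e ⟨x, hx⟩, e.symm_apply_apply _⟩
    have hx' : x = (e.symm y : G) := by rw [hy]
    subst hx'
    rcases y with i | i
    · left
      rw [← ZMod.natCast_zmod_val i, ← QuaternionGroup.a_one_pow, map_pow, Subgroup.coe_pow]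
      exact pow_mem (mem_zpowers _) _
    · right
      have hm : (QuaternionGroup.xa i : QuaternionGroup (2 ^ (n + 2)))
          = QuaternionGroup.xa 0 * QuaternionGroup.a 1 ^ i.val := by
        rw [QuaternionGroup.a_one_pow, QuaternionGroup.xa_mul_a, ZMod.natCast_zmod_val, zero_add]
      rw [hm, map_mul, map_pow, Subgroup.coe_mul, Subgroup.coe_pow, inv_mul_cancel_left]
      exact pow_mem (mem_zpowers _) _

namespace QuatData

variable {G : Type*} [Group G] {S : Sylow 2 G} {k : ℕ} (Q : QuatData S k)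

/-- The derived group of the Sylow subgroup. -/
def D : Subgroup G := zpowers (Q.a ^ 2)

/-- The centralizer of the derived group. -/
def C : Subgroup G := centralizer (Q.D : Set G)

/-- The normalizer of the derived group. -/
def N : Subgroup G := normalizer (Q.D : Set G)

theorem four_dvd_two_pow (Q : QuatData S k) : 4 ∣ 2 ^ k := by
  have h : (2 : ℕ) ^ 2 ∣ 2 ^ k := pow_dvd_pow 2 Q.hk
  simpa using h

theorem conj_zpow (i : ℤ) : Q.b * Q.a ^ i * Q.b⁻¹ = Q.a ^ (-i) := by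
  have h := map_zpow (MulAut.conj Q.b).toMonoidHom Q.a i
  simp only [MulEquiv.coe_toMonoidHom, MulAut.conj_apply, Q.conj] at h
  rw [h, inv_zpow, zpow_neg]

theorem conj_zpow' (i : ℤ) : Q.b⁻¹ * Q.a ^ i * Q.b = Q.a ^ (-i) := by
  have h := Q.conj_zpow (-i)
  rw [neg_neg] at h
  rw [← h]; group

theorem eq_one_iff (i : ℤ) : Q.a ^ i = 1 ↔ ((2 ^ (k + 1) : ℕ) : ℤ) ∣ i := by
  rw [← orderOf_dvd_iff_zpow_eq_one, Q.orderOf_a]

theorem card_D : Nat.card Q.D = 2 ^ k := by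
  rw [D, Nat.card_zpowers, orderOf_pow_of_dvd two_ne_zero (by rw [Q.orderOf_a]; exact dvd_pow_self 2 k.succ_ne_zero),
    Q.orderOf_a, pow_succ, Nat.mul_div_cancel _ two_pos]

theorem mem_D_of_pow_eq_one {u : G} (hu : u ∈ zpowers Q.a) (h : u ^ (2 ^ k) = 1) : u ∈ Q.D := by
  obtain ⟨j, rfl⟩ := mem_zpowers_iff.1 hu
  rw [← zpow_natCast, ← zpow_mul, Q.eq_one_iff] at h
  push_cast at h
  rw [pow_succ, mul_comm ((2 : ℤ) ^ k) 2, mul_dvd_mul_iff_right (by positivity)] at h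
  obtain ⟨i, rfl⟩ := h
  exact mem_zpowers_iff.2 ⟨i, by rw [← zpow_natCast, ← zpow_mul]; norm_num⟩

theorem commutator_eq : ⁅(S : Subgroup G), (S : Subgroup G)⁆ = Q.D := by
  have mem2 : ∀ i : ℤ, Q.a ^ (2 * i) ∈ Q.D := fun i => mem_zpowers_iff.2 ⟨i, by rw [zpow_mul]; norm_cast⟩
  refine le_antisymm ?_ ?_
  · rw [commutator_le]
    intro x hx y hy
    rcases Q.cases x hx with hx' | hx' <;> obtain ⟨i, hi⟩ := mem_zpowers_iff.1 hx' <;>
      rcases Q.cases y hy with hy' | hy' <;> obtain ⟨j, hj⟩ := mem_zpowers_iff.1 hy'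
    · rw [← hi, ← hj, commutatorElement_eq_one_iff_mul_comm.2 (by rw [← zpow_add, ← zpow_add, add_comm])]
      exact one_mem _
    · rw [← hi, eq_mul_of_inv_mul_eq hj.symm, commutatorElement_def]
      convert mem2 i using 1
      have h := Q.conj_zpow (-i)
      rw [neg_neg] at h
      calc Q.a ^ i * (Q.b * Q.a ^ j) * (Q.a ^ i)⁻¹ * (Q.b * Q.a ^ j)⁻¹
          = Q.a ^ i * (Q.b * Q.a ^ (-i) * Q.b⁻¹) := by group
        _ = _ := by rw [h, ← zpow_add, two_mul]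
    · rw [← hj, eq_mul_of_inv_mul_eq hi.symm, commutatorElement_def]
      convert mem2 (-j) using 1
      calc Q.b * Q.a ^ i * Q.a ^ j * (Q.b * Q.a ^ i)⁻¹ * (Q.a ^ j)⁻¹
          = (Q.b * Q.a ^ j * Q.b⁻¹) * Q.a ^ (-j) := by group
        _ = _ := by rw [Q.conj_zpow, ← zpow_add, two_mul]
    · rw [eq_mul_of_inv_mul_eq hi.symm, eq_mul_of_inv_mul_eq hj.symm, commutatorElement_def]
      convert mem2 (j - i) using 1
      calc Q.b * Q.a ^ i * (Q.b * Q.a ^ j) * (Q.b * Q.a ^ i)⁻¹ * (Q.b * Q.a ^ j)⁻¹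
          = Q.b * Q.a ^ i * (Q.b * Q.a ^ (j - i) * Q.b⁻¹) * Q.a ^ (-j) * Q.b⁻¹ := by group
        _ = Q.b * Q.a ^ (2 * i - 2 * j) * Q.b⁻¹ := by rw [Q.conj_zpow]; group
        _ = _ := by rw [Q.conj_zpow]; ring_nf
  · rw [D, zpowers_le]
    have h : ⁅Q.a, Q.b⁆ ∈ ⁅(S : Subgroup G), (S : Subgroup G)⁆ := commutator_mem_commutator Q.ha Q.hb
    rw [commutatorElement_def] at h
    convert h using 1
    have h' := Q.conj_zpow (-1)
    rw [neg_neg, zpow_one, zpow_neg_one] at h'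
    rw [pow_two, show Q.a * Q.b * Q.a⁻¹ * Q.b⁻¹ = Q.a * (Q.b * Q.a⁻¹ * Q.b⁻¹) by group, h']

theorem a_mem_C : Q.a ∈ Q.C := by
  rw [C, mem_centralizer_iff]
  rintro d ⟨i, rfl⟩
  exact (((Commute.refl Q.a).pow_left 2).zpow_left i).eq

theorem zpowers_le_C : zpowers Q.a ≤ Q.C := zpowers_le.2 Q.a_mem_C

theorem b_not_mem_C : Q.b ∉ Q.C := by
  intro h
  have h1 := mem_centralizer_iff.1 h (Q.a ^ 2) (mem_zpowers _)
  have h2 : Q.b * Q.a ^ (2 : ℤ) * Q.b⁻¹ = Q.a ^ (2 : ℤ) := by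
    rw [zpow_ofNat, ← h1, mul_inv_cancel_right]
  rw [Q.conj_zpow, ← mul_inv_eq_one, ← zpow_neg, ← zpow_add, Q.eq_one_iff] at h2
  have h3 : (2 : ℕ) ^ (k + 1) ∣ 4 := by
    have h4 := Int.natAbs_dvd_natAbs.2 h2
    simpa using h4
  have h5 := Nat.le_of_dvd (by norm_num) h3
  have h6 : (2 : ℕ) ^ 3 ≤ 2 ^ (k + 1) := Nat.pow_le_pow_right two_pos (by have := Q.hk; omega)
  omega

theorem C_le_N : Q.C ≤ Q.N := centralizer_le_normalizer _

theorem N_le_normalizer_C : Q.N ≤ normalizer (Q.C : Set G) := by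
  intro g hg
  have key : ∀ g ∈ Q.N, ∀ x ∈ Q.C, g * x * g⁻¹ ∈ Q.C := by
    intro g hg x hx
    rw [C, mem_centralizer_iff]
    intro d hd
    have hd' : g⁻¹ * d * g ∈ Q.D := by
      have := (mem_normalizer_iff.1 (inv_mem hg) d).1 hd
      simpa using this
    have h1 := mem_centralizer_iff.1 hx _ hd'
    calc d * (g * x * g⁻¹) = g * ((g⁻¹ * d * g) * x) * g⁻¹ := by group
      _ = g * (x * (g⁻¹ * d * g)) * g⁻¹ := by rw [h1]
      _ = _ := by group
  refine mem_normalizer_iff.2 fun x => ⟨key g hg x, fun h => ?_⟩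
  have := key g⁻¹ (inv_mem hg) _ h
  simpa [mul_assoc] using this

theorem S_le_N : (S : Subgroup G) ≤ Q.N := by
  rw [N, ← Q.commutator_eq]
  intro x hx
  refine mem_normalizer_iff.2 fun d => ?_
  have key : ∀ y ∈ (S : Subgroup G), ∀ d ∈ ⁅(S : Subgroup G), (S : Subgroup G)⁆,
      y * d * y⁻¹ ∈ ⁅(S : Subgroup G), (S : Subgroup G)⁆ := fun y hy d hd => by
    have hle : ⁅(S : Subgroup G), (S : Subgroup G)⁆ ≤ (S : Subgroup G) :=
      commutator_le.2 fun u hu v hv => mul_mem (mul_mem (mul_mem hu hv) (inv_mem hu)) (inv_mem hv)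
    have h1 := mul_mem (commutator_mem_commutator hy (hle hd)) hd
    simpa [commutatorElement_def, mul_assoc] using h1
  refine ⟨key x hx d, fun h => ?_⟩
  have := key x⁻¹ (inv_mem hx) _ h
  simpa [mul_assoc] using this

theorem b_mem_N : Q.b ∈ Q.N := Q.S_le_N Q.hb

theorem S_inf_C : (S : Subgroup G) ⊓ Q.C = zpowers Q.a := by
  refine le_antisymm ?_ (le_inf (zpowers_le.2 Q.ha) Q.zpowers_le_C)
  intro x hxI
  obtain ⟨hx, hxC⟩ := mem_inf.1 hxI
  rcases Q.cases x hx with h | h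
  · exact h
  · refine absurd ?_ Q.b_not_mem_C
    have h2 := mul_mem hxC (inv_mem (Q.zpowers_le_C h))
    simpa using h2

variable [Finite G]

theorem conj_into_zpowers {R : Subgroup G} (hR : IsPGroup 2 R) (hRC : R ≤ Q.C) :
    ∃ h ∈ Q.N, ∀ x ∈ R, h * x * h⁻¹ ∈ zpowers Q.a := by
  haveI : Fact (Nat.Prime 2) := ⟨Nat.prime_two⟩
  obtain ⟨h, hh, hc⟩ := CfsgLib.SylowConj.exists_conj_mem Q.N S Q.S_le_N R hR (hRC.trans Q.C_le_N)
  refine ⟨h, hh, fun x hx => ?_⟩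
  rw [← Q.S_inf_C]
  exact ⟨hc x hx, (mem_normalizer_iff.1 (Q.N_le_normalizer_C hh) x).1 (hRC hx)⟩

/-- The normal 2-complement of the centralizer. -/
def K : Subgroup G := (Cfsg.pResidual 2 Q.C).map Q.C.subtype

theorem K_le_C : Q.K ≤ Q.C := Subgroup.map_subtype_le _

theorem exists_sylow_C : ∃ P : Sylow 2 Q.C, (P : Subgroup Q.C) = zpowers (⟨Q.a, Q.a_mem_C⟩ : Q.C) := by
  haveI : Fact (Nat.Prime 2) := ⟨Nat.prime_two⟩
  set A := zpowers (⟨Q.a, Q.a_mem_C⟩ : Q.C)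
  have hcA : Nat.card A = 2 ^ (k + 1) := by
    rw [Nat.card_zpowers, ← Subgroup.orderOf_coe]; exact Q.orderOf_a
  obtain ⟨P, hP⟩ := (IsPGroup.of_card hcA).exists_le_sylow
  refine ⟨P, (Subgroup.eq_of_le_of_card_ge hP ?_).symm⟩
  obtain ⟨h, -, hc⟩ := Q.conj_into_zpowers (R := (P : Subgroup Q.C).map Q.C.subtype) (P.2.map _)
    (Subgroup.map_subtype_le _)
  rw [hcA, ← Q.orderOf_a, ← Nat.card_zpowers]
  refine Nat.card_le_card_of_injective
    (fun x => ⟨h * ((x : Q.C) : G) * h⁻¹, hc _ ⟨_, x.2, rfl⟩⟩) fun x y hxy => ?_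
  exact Subtype.ext (Subtype.ext (mul_left_cancel (mul_right_cancel (congrArg Subtype.val hxy))))

theorem K_facts : Odd (Nat.card Q.K) ∧ ∀ x ∈ Q.C, ∃ i : ℤ, x * Q.a ^ (-i) ∈ Q.K := by
  obtain ⟨P, hP⟩ := Q.exists_sylow_C
  have hcyc : IsCyclic P := by
    show IsCyclic (P : Subgroup Q.C)
    rw [hP]; infer_instance
  obtain ⟨hodd, hc⟩ := two_residual_of_isCyclic P hcyc
  refine ⟨by rw [K, Subgroup.card_map_of_injective (Subgroup.subtype_injective _)]; exact hodd, fun x hx => ?_⟩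
  obtain ⟨⟨y, p⟩, hyp⟩ := hc.existsUnique ⟨x, hx⟩ |>.exists
  have hp : (p : Q.C) ∈ zpowers (⟨Q.a, Q.a_mem_C⟩ : Q.C) := hP ▸ p.2
  obtain ⟨i, hi⟩ := mem_zpowers_iff.1 hp
  refine ⟨i, ⟨y, y.2, ?_⟩⟩
  have e1 : x = ((y : Q.C) : G) * Q.a ^ i := by
    have := congrArg (fun z : Q.C => (z : G)) hyp
    simp only at this
    rw [← this, ← hi]; simp
  rw [e1, zpow_neg]; simp

theorem mem_K_iff (x : G) : x ∈ Q.K ↔ x ∈ Q.C ∧ Odd (orderOf x) := by
  refine ⟨fun h => ⟨Q.K_le_C h, Q.K_facts.1.of_dvd_nat (orderOf_dvd_natCard Q.K h)⟩, fun h => ?_⟩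
  refine ⟨⟨x, h.1⟩, CfsgLib.Transfer.mem_pResidual_of_coprime ?_, rfl⟩
  rw [← Subgroup.orderOf_coe, Nat.coprime_comm, Nat.Prime.coprime_iff_not_dvd Nat.prime_two, ← even_iff_two_dvd,
    Nat.not_even_iff_odd]
  exact h.2

theorem N_le_normalizer_K : Q.N ≤ normalizer (Q.K : Set G) := by
  intro g hg
  refine mem_normalizer_iff.2 fun x => ?_
  rw [Q.mem_K_iff, Q.mem_K_iff, ← mem_normalizer_iff.1 (Q.N_le_normalizer_C hg) x, ← MulAut.conj_apply,
    MulEquiv.orderOf_eq]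

theorem N_cases {x : G} (hx : x ∈ Q.N) : x ∈ Q.C ∨ Q.b⁻¹ * x ∈ Q.C := by
  haveI : Fact (Nat.Prime 2) := ⟨Nat.prime_two⟩
  have hsup : Q.N ≤ Q.C ⊔ (S : Subgroup G) := by
    rw [← relIndex_eq_one]
    have h1 : (Q.C ⊔ (S : Subgroup G)).relIndex Q.N ∣ 2 ^ (k - 1) := by
      refine (relIndex_dvd_of_le_left Q.N le_sup_left).trans ?_
      have h2 : Q.C.relIndex Q.N = Nat.card Q.D.normalizerMonoidHom.range := by
        rw [← index_ker, normalizerMonoidHom_ker]; rfl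
      rw [h2]
      refine (card_subgroup_dvd_card _).trans ?_
      haveI : IsCyclic Q.D := inferInstanceAs (IsCyclic (zpowers (Q.a ^ 2)))
      rw [IsCyclic.card_mulAut, Q.card_D, Nat.totient_prime_pow Nat.prime_two (by have := Q.hk; omega)]
      simp
    have h3 : ¬ 2 ∣ (Q.C ⊔ (S : Subgroup G)).relIndex Q.N := fun h => S.not_dvd_index <| h.trans <|
      (relIndex_dvd_of_le_left Q.N le_sup_right).trans (relIndex_dvd_index_of_le Q.S_le_N)
    obtain ⟨j, -, hj⟩ := (Nat.dvd_prime_pow Nat.prime_two).1 h1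
    rcases Nat.eq_zero_or_pos j with h0 | h0
    · rw [hj, h0, pow_zero]
    · exact absurd (hj ▸ dvd_pow_self 2 h0.ne') h3
  have hm : x ∈ ((Q.C ⊔ (S : Subgroup G) : Subgroup G) : Set G) := hsup hx
  rw [coe_mul_of_right_le_normalizer_left _ _ (Q.S_le_N.trans Q.N_le_normalizer_C)] at hm
  obtain ⟨c, hc, s, hs, rfl⟩ := hm
  rcases Q.cases s hs with h | h
  · exact Or.inl (mul_mem hc (Q.zpowers_le_C h))
  · right
    have h1 := (mem_normalizer_iff.1 (Q.N_le_normalizer_C (inv_mem Q.b_mem_N)) c).1 hc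
    rw [inv_inv] at h1
    have := mul_mem h1 (Q.zpowers_le_C h)
    simpa [mul_assoc] using this

theorem index_C : (Q.C.subgroupOf Q.N).index = 2 := by
  rw [index_eq_two_iff']
  refine ⟨⟨Q.b⁻¹, inv_mem Q.b_mem_N⟩, fun x => ?_⟩
  simp only [mem_subgroupOf, Subgroup.coe_mul]
  rcases Q.N_cases x.2 with h | h
  · refine Or.inr ⟨h, fun h' => Q.b_not_mem_C ?_⟩
    have := mul_mem h' (inv_mem h)
    simpa using this
  · refine Or.inl ⟨h, fun h' => Q.b_not_mem_C ?_⟩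
    have := mul_mem h' (inv_mem h)
    simpa [mul_assoc] using this

theorem K_sup_S : Q.K ⊔ (S : Subgroup G) = Q.N := by
  refine le_antisymm (sup_le (Q.K_le_C.trans Q.C_le_N) Q.S_le_N) fun x hx => ?_
  have hC : ∀ y ∈ Q.C, y ∈ Q.K ⊔ (S : Subgroup G) := fun y hy => by
    obtain ⟨i, hi⟩ := Q.K_facts.2 y hy
    have h1 : y * Q.a ^ (-i) ∈ Q.K ⊔ (S : Subgroup G) := mem_sup_left hi
    have h2 : Q.a ^ i ∈ Q.K ⊔ (S : Subgroup G) := mem_sup_right (zpow_mem Q.ha i)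
    simpa using mul_mem h1 h2
  rcases Q.N_cases hx with h | h
  · exact hC x h
  · simpa using mul_mem (mem_sup_right Q.hb : Q.b ∈ Q.K ⊔ (S : Subgroup G)) (hC _ h)

theorem K_sup_inf : Q.K ⊔ ((S : Subgroup G) ⊓ Q.C) = Q.C := by
  refine le_antisymm (sup_le Q.K_le_C inf_le_right) fun y hy => ?_
  obtain ⟨i, hi⟩ := Q.K_facts.2 y hy
  have h1 : y * Q.a ^ (-i) ∈ Q.K ⊔ ((S : Subgroup G) ⊓ Q.C) := mem_sup_left hi
  have h2 : Q.a ^ i ∈ Q.K ⊔ ((S : Subgroup G) ⊓ Q.C) :=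
    mem_sup_right ⟨zpow_mem Q.ha i, zpow_mem Q.a_mem_C i⟩
  simpa using mul_mem h1 h2

/-- Every element of the centralizer of order divisible by `|D|` has a power generating `D`. -/
theorem zpowers_pow_eq {y : G} (hy : y ∈ Q.C) (hd : 2 ^ k ∣ orderOf y) :
    zpowers (y ^ (orderOf y / 2 ^ k)) = Q.D := by
  set v := y ^ (orderOf y / 2 ^ k)
  have hv : orderOf v = 2 ^ k := by
    obtain ⟨r, hr⟩ := hd
    have hr0 : r ≠ 0 := by rintro rfl; exact (orderOf_pos y).ne' (by simp [hr])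
    simp only [v, hr, Nat.mul_div_cancel_left _ (Nat.two_pow_pos k)]
    rw [orderOf_pow_of_dvd hr0 (hr ▸ dvd_mul_left _ _), hr, Nat.mul_div_cancel _ (Nat.pos_of_ne_zero hr0)]
  obtain ⟨h, hh, hc⟩ := Q.conj_into_zpowers (R := zpowers v)
    (IsPGroup.of_card (by rw [Nat.card_zpowers, hv])) (zpowers_le.2 (pow_mem hy _))
  have hmem : h * v * h⁻¹ ∈ Q.D := Q.mem_D_of_pow_eq_one (hc v (mem_zpowers v)) (by
    rw [conj_pow, ← hv, pow_orderOf_eq_one]; group)
  have hv' : v ∈ Q.D := (mem_normalizer_iff.1 hh v).2 hmem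
  exact Subgroup.eq_of_le_of_card_ge (zpowers_le.2 hv') (by rw [Q.card_D, Nat.card_zpowers, hv])

theorem mem_N_of_conj {g y : G} (hy : y ∈ Q.C) (hd : 2 ^ k ∣ orderOf y) (hgy : g * y * g⁻¹ ∈ Q.C) : g ∈ Q.N := by
  have ho : orderOf (g * y * g⁻¹) = orderOf y := by rw [← MulAut.conj_apply, MulEquiv.orderOf_eq]
  have h1 := Q.zpowers_pow_eq hy hd
  have h2 := Q.zpowers_pow_eq hgy (ho ▸ hd)
  rw [ho] at h2
  have h3 : g * y ^ (orderOf y / 2 ^ k) * g⁻¹ = (g * y * g⁻¹) ^ (orderOf y / 2 ^ k) := conj_pow.symm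
  have hmap : Q.D.map (MulAut.conj g).toMonoidHom = Q.D := by
    conv_lhs => rw [← h1, MonoidHom.map_zpowers]
    simp only [MulEquiv.coe_toMonoidHom, MulAut.conj_apply, h3, h2]
  refine mem_normalizer_iff.2 fun d => ⟨fun hd => hmap.le ⟨d, hd, rfl⟩, fun hd => ?_⟩
  obtain ⟨d', hd', he⟩ := hmap.ge hd
  simp only [MulEquiv.coe_toMonoidHom, MulAut.conj_apply] at he
  rwa [mul_left_cancel (mul_right_cancel he)] at hd'

end QuatData

end CfsgLib.Exceptional
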