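import Mathlib
import Cfsg.Agent.CharBasics.Induced
import Cfsg.Agent.CharBasics.Ortho

/-! Induction of class functions supported on a trivial intersection set with prescribed normaliser. -/

set_option autoImplicit false

namespace CfsgLib.Exceptional

open CfsgLib.CharBasics

universe u

variable {G : Type u} [Group G]

/-- `S` is a subset of `H`, invariant under `H`, meeting none of its conjugates by elements outside `H`. -/
structure TISetup (H : Subgroup G) (S : Set G) : Prop where
  subset : S ⊆ (H : Set G)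
  conj_mem : ∀ h ∈ H, ∀ s ∈ S, h * s * h⁻¹ ∈ S
  ti : ∀ g : G, g ∉ H → ∀ s ∈ S, g * s * g⁻¹ ∉ S

variable [Fintype G] {H : Subgroup G} {S : Set G}

theorem extendByZero_eq_zero_of_not_mem_supp {φ : H → ℂ} (hφ : ∀ x : H, (x : G) ∉ S → φ x = 0) {g : G}
    (hg : g ∉ S) : Cfsg.extendByZero H φ g = 0 := by
  by_cases hH : g ∈ H
  · rw [extendByZero_coe H φ ⟨g, hH⟩]; exact hφ _ hg
  · exact extendByZero_of_not_mem H φ hH

theorem indFun_apply_of_mem (hS : TISetup H S) {φ : H → ℂ} (hcl : Cfsg.IsClassFunction H φ)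
    (hφ : ∀ x : H, (x : G) ∉ S → φ x = 0) (s : H) (hs : (s : G) ∈ S) :
    Cfsg.indFun H φ (s : G) = φ s := by
  classical
  have key : ∀ x : G, Cfsg.extendByZero H φ (x⁻¹ * s * x) = if x ∈ H then φ s else 0 := by
    intro x
    by_cases hx : x ∈ H
    · rw [if_pos hx]
      have e : x⁻¹ * (s : G) * x = ((⟨x, hx⟩⁻¹ * s * (⟨x, hx⟩⁻¹)⁻¹ : H) : G) := by simp
      rw [e, extendByZero_coe, hcl]
    · rw [if_neg hx]
      refine extendByZero_eq_zero_of_not_mem_supp hφ fun h => ?_
      have := hS.ti x⁻¹ (fun h' => hx (by simpa using H.inv_mem h')) s hs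
      exact this (by simpa using h)
  rw [Cfsg.indFun, Finset.sum_congr rfl (fun x _ => key x), ← Finset.sum_filter, Finset.sum_const, nsmul_eq_mul]
  have hc : (Finset.univ.filter fun y : G => y ∈ H).card = Nat.card H := by
    rw [← Fintype.card_subtype, ← Nat.card_eq_fintype_card]
  rw [hc, inv_mul_cancel_left₀]
  exact Nat.cast_ne_zero.mpr Nat.card_pos.ne'

theorem indFun_eq_zero_of_no_conj {φ : H → ℂ} (hφ : ∀ x : H, (x : G) ∉ S → φ x = 0) (g : G)
    (hg : ∀ x : G, x * g * x⁻¹ ∉ S) : Cfsg.indFun H φ g = 0 := by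
  rw [Cfsg.indFun, Finset.sum_eq_zero, mul_zero]
  intro x _
  exact extendByZero_eq_zero_of_not_mem_supp hφ (by simpa using hg x⁻¹)

/-- The inner product with a restricted class function only sees the support. -/
theorem classInner_restrict_indFun (hS : TISetup H S) [Fintype H] {φ ψ : H → ℂ} (hψc : Cfsg.IsClassFunction H ψ)
    (hφ : ∀ x : H, (x : G) ∉ S → φ x = 0) (hψ : ∀ x : H, (x : G) ∉ S → ψ x = 0) :
    Cfsg.classInner φ (fun h : H => Cfsg.indFun H ψ h) = Cfsg.classInner φ ψ := by
  simp only [classInner_eq]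
  congr 1
  refine Finset.sum_congr rfl fun x _ => ?_
  by_cases hx : (x : G) ∈ S
  · rw [indFun_apply_of_mem hS hψc hψ x hx]
  · rw [hφ x hx]; simp

/-- Induction is an isometry on class functions supported on a TI set. -/
theorem classInner_indFun_indFun (hS : TISetup H S) [Fintype H] {φ ψ : H → ℂ} (hψc : Cfsg.IsClassFunction H ψ)
    (hφ : ∀ x : H, (x : G) ∉ S → φ x = 0) (hψ : ∀ x : H, (x : G) ∉ S → ψ x = 0) :
    Cfsg.classInner (Cfsg.indFun H φ) (Cfsg.indFun H ψ) = Cfsg.classInner φ ψ := by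
  rw [classInner_indFun H φ (isClassFunction_indFun H ψ)]
  exact classInner_restrict_indFun hS hψc hφ hψ

end CfsgLib.Exceptional
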