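import Mathlib
import Cfsg.Agent.Exceptional.Quat
import Cfsg.Agent.Exceptional.TI
import Cfsg.Agent.Exceptional.Virtual
import Cfsg.Agent.CharBasics.Central
import Cfsg.Agent.CharBasics.Extra

/-! The exceptional characters of a group with quaternion Sylow 2-subgroups of order at least 16 (Brauer–Suzuki). -/

set_option autoImplicit false

namespace CfsgLib.Exceptional

open Subgroup CfsgLib.CharBasics
open scoped ComplexConjugate

universe u

theorem isCharacter_monoidHom {G : Type u} [Group G] (l : G →* ℂ) : Cfsg.IsCharacter G (fun g => l g) := by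
  let ρ : Representation ℂ G ℂ :=
    { toFun := fun g => l g • LinearMap.id
      map_one' := by ext; simp
      map_mul' := fun a b => by ext; simp [mul_comm] }
  have : ρ.character = fun g => l g := by
    funext g
    show LinearMap.trace ℂ ℂ (l g • LinearMap.id) = _
    rw [map_smul, LinearMap.trace_id, Module.finrank_self]
    simp
  exact this ▸ isCharacter_rep ρ

namespace QuatData

variable {G : Type u} [Group G] [Finite G] {S : Sylow 2 G} {k : ℕ} (Q : QuatData S k)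

/-- `i` is an exponent of `x` modulo the normal complement. -/
def HasExp (x : G) (i : ℤ) : Prop := x * Q.a ^ (-i) ∈ Q.K

theorem hasExp_mul {x y : G} {i j : ℤ} (hx : Q.HasExp x i) (hy : Q.HasExp y j) : Q.HasExp (x * y) (i + j) := by
  have h1 := (mem_normalizer_iff.1 (Q.N_le_normalizer_K (zpow_mem (Q.S_le_N Q.ha) i)) (y * Q.a ^ (-j))).1 hy
  have h2 := mul_mem hx h1
  unfold HasExp
  convert h2 using 1
  rw [zpow_neg, zpow_neg, zpow_neg, zpow_add]
  group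

theorem hasExp_one : Q.HasExp 1 0 := by simp [HasExp]

theorem hasExp_pow {x : G} {i : ℤ} (hx : Q.HasExp x i) (r : ℕ) : Q.HasExp (x ^ r) (r * i) := by
  induction r with
  | zero => simpa using Q.hasExp_one
  | succ r ih =>
    rw [pow_succ]
    convert Q.hasExp_mul ih hx using 1
    push_cast; ring

theorem dvd_of_hasExp_one {i : ℤ} (h : Q.HasExp 1 i) : ((2 ^ (k + 1) : ℕ) : ℤ) ∣ i := by
  rw [HasExp, one_mul] at h
  have h1 : orderOf (Q.a ^ (-i)) ∣ 2 ^ (k + 1) := Q.orderOf_a ▸ orderOf_dvd_of_mem_zpowers (zpow_mem (mem_zpowers _) _)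
  obtain ⟨j, -, hj⟩ := (Nat.dvd_prime_pow Nat.prime_two).1 h1
  have h2 := ((Q.mem_K_iff _).1 h).2
  rw [hj] at h2
  rcases Nat.eq_zero_or_pos j with h0 | h0
  · rw [h0, pow_zero, orderOf_eq_one_iff, Q.eq_one_iff, dvd_neg] at hj
    exact hj
  · exact absurd h2 (Nat.not_odd_iff_even.2 (Nat.even_pow.2 ⟨even_two, h0.ne'⟩))

/-- The exponent of an element of the centralizer. -/
noncomputable def expo (x : Q.C) : ℤ := Classical.choose (Q.K_facts.2 x x.2)

theorem hasExp_expo (x : Q.C) : Q.HasExp x (Q.expo x) := Classical.choose_spec (Q.K_facts.2 x x.2)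

/-- The linear character of order four of the centralizer. -/
noncomputable def lam (x : Q.C) : ℂ := Complex.I ^ Q.expo x

theorem I_zpow_eq {i j : ℤ} (h : (4 : ℤ) ∣ i - j) : Complex.I ^ i = Complex.I ^ j := by
  obtain ⟨r, hr⟩ := h
  have h4 : Complex.I ^ (4 : ℤ) = 1 := by rw [zpow_ofNat, Complex.I_pow_four]
  rw [show i = j + 4 * r by omega, zpow_add₀ Complex.I_ne_zero, zpow_mul, h4, one_zpow, mul_one]

theorem lam_eq (x : Q.C) {i : ℤ} (h : Q.HasExp x i) : Q.lam x = Complex.I ^ i := by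
  refine I_zpow_eq ?_
  have h1 : Q.a ^ (Q.expo x - i) ∈ Q.K := by
    have h2 := mul_mem (inv_mem (Q.hasExp_expo x)) h
    convert h2 using 1
    group
  have h3 := Q.dvd_of_hasExp_one (i := -(Q.expo x - i)) (by simpa [HasExp] using h1)
  rw [dvd_neg] at h3
  refine dvd_trans ?_ h3
  exact_mod_cast Q.four_dvd_two_pow.trans (pow_dvd_pow 2 k.le_succ)

/-- The linear character as a homomorphism. -/
noncomputable def lamHom : Q.C →* ℂ where
  toFun := Q.lam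
  map_one' := by rw [Q.lam_eq 1 Q.hasExp_one, zpow_zero]
  map_mul' x y := by
    rw [Q.lam_eq (x * y) (Q.hasExp_mul (Q.hasExp_expo x) (Q.hasExp_expo y)), lam, lam,
      zpow_add₀ Complex.I_ne_zero]

theorem lam_a : Q.lam ⟨Q.a, Q.a_mem_C⟩ = Complex.I := by
  rw [Q.lam_eq _ (i := 1) (by simp [HasExp]), zpow_one]

theorem conj_lam (x : Q.C) : conj (Q.lam x) = (Q.lam x)⁻¹ := by
  rw [lam, map_zpow₀, Complex.conj_I, ← inv_zpow, Complex.inv_I]

theorem lam_ne_zero (x : Q.C) : Q.lam x ≠ 0 := zpow_ne_zero _ Complex.I_ne_zero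

theorem lam_pow_four (x : Q.C) : Q.lam x ^ 4 = 1 := by
  rw [lam, ← zpow_natCast, ← zpow_mul, mul_comm, zpow_mul, zpow_natCast, Complex.I_pow_four, one_zpow]

theorem dvd_orderOf_of_lam_ne {x : G} (hx : x ∈ Q.C) (h : Q.lam ⟨x, hx⟩ ≠ 1) : 2 ^ k ∣ orderOf x := by
  have he := Q.hasExp_expo ⟨x, hx⟩
  set i := Q.expo ⟨x, hx⟩
  have hi : ¬ (4 : ℤ) ∣ i := fun h4 => h <| by
    rw [lam]; simpa using I_zpow_eq (j := 0) (by simpa using h4)
  have h1 := Q.hasExp_pow he (orderOf x)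
  simp only [pow_orderOf_eq_one] at h1
  have h2 := Q.dvd_of_hasExp_one h1
  push_cast at h2
  rw [← Int.natCast_dvd_natCast]
  push_cast
  rcases Int.even_or_odd i with ⟨r, hr⟩ | hodd
  · have hr' : Odd r := by
      rw [← Int.not_even_iff_odd]
      rintro ⟨s, hs⟩
      exact hi ⟨s, by omega⟩
    rw [hr, ← two_mul, mul_left_comm, pow_succ', mul_dvd_mul_iff_left two_ne_zero] at h2
    exact ((Int.isCoprime_two_left.2 hr').pow_left).dvd_of_dvd_mul_right h2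
  · exact (pow_dvd_pow 2 k.le_succ).trans (((Int.isCoprime_two_left.2 hodd).pow_left).dvd_of_dvd_mul_right h2)

theorem lam_eq_one_of_not_dvd {x : G} (hx : x ∈ Q.C) (h : ¬ 4 ∣ orderOf x) : Q.lam ⟨x, hx⟩ = 1 :=
  not_not.1 fun h' => h (Q.four_dvd_two_pow.trans (Q.dvd_orderOf_of_lam_ne hx h'))

theorem lam_conj_b {x : G} (hx : x ∈ Q.C) (hx' : Q.b * x * Q.b⁻¹ ∈ Q.C) :
    Q.lam ⟨Q.b * x * Q.b⁻¹, hx'⟩ = (Q.lam ⟨x, hx⟩)⁻¹ := by
  rw [Q.lam_eq ⟨Q.b * x * Q.b⁻¹, hx'⟩ (i := -Q.expo ⟨x, hx⟩), lam, zpow_neg]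
  have h := (mem_normalizer_iff.1 (Q.N_le_normalizer_K Q.b_mem_N) _).1 (Q.hasExp_expo ⟨x, hx⟩)
  unfold HasExp
  have h2 := Q.conj_zpow (-Q.expo ⟨x, hx⟩)
  rw [← h2]
  convert h using 1
  group

theorem lam_conj_C {c x : G} (hc : c ∈ Q.C) (hx : x ∈ Q.C) (hx' : c * x * c⁻¹ ∈ Q.C) :
    Q.lam ⟨c * x * c⁻¹, hx'⟩ = Q.lam ⟨x, hx⟩ := by
  have h : (⟨c * x * c⁻¹, hx'⟩ : Q.C) = ⟨c, hc⟩ * ⟨x, hx⟩ * ⟨c, hc⟩⁻¹ := rfl
  show Q.lamHom _ = Q.lamHom _
  rw [h, map_mul, mul_comm, ← map_mul, inv_mul_cancel_left]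

theorem lam_conj_N {g x : G} (hg : g ∈ Q.N) (hx : x ∈ Q.C) (hx' : g * x * g⁻¹ ∈ Q.C) :
    (g ∈ Q.C → Q.lam ⟨g * x * g⁻¹, hx'⟩ = Q.lam ⟨x, hx⟩) ∧
      (g ∉ Q.C → Q.lam ⟨g * x * g⁻¹, hx'⟩ = (Q.lam ⟨x, hx⟩)⁻¹) := by
  refine ⟨fun h => Q.lam_conj_C h hx hx', fun h => ?_⟩
  have hc : Q.b⁻¹ * g ∈ Q.C := (Q.N_cases hg).resolve_left h
  have h1 : Q.b⁻¹ * g * x * (Q.b⁻¹ * g)⁻¹ ∈ Q.C := mul_mem (mul_mem hc hx) (inv_mem hc)
  have h2 : g * x * g⁻¹ = Q.b * (Q.b⁻¹ * g * x * (Q.b⁻¹ * g)⁻¹) * Q.b⁻¹ := by group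
  have h3 := Q.lam_conj_b h1 (h2 ▸ hx')
  rw [Q.lam_conj_C hc hx h1] at h3
  simpa only [← h2] using h3

/-- The special classes: elements of the centralizer outside the kernel of the character. -/
def special : Set G := {g | ∃ hg : g ∈ Q.C, Q.lam ⟨g, hg⟩ ≠ 1}

theorem special_ti : TISetup Q.N Q.special where
  subset := fun g hg => Q.C_le_N hg.1
  conj_mem := fun h hh s hs => by
    obtain ⟨hs, hne⟩ := hs
    have hm : h * s * h⁻¹ ∈ Q.C := (mem_normalizer_iff.1 (Q.N_le_normalizer_C hh) s).1 hs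
    refine ⟨hm, fun h1 => hne ?_⟩
    by_cases hC : h ∈ Q.C
    · rwa [(Q.lam_conj_N hh hs hm).1 hC] at h1
    · rwa [(Q.lam_conj_N hh hs hm).2 hC, inv_eq_one] at h1
  ti := fun g hg s hs hgs => hg (Q.mem_N_of_conj hs.1 (Q.dvd_orderOf_of_lam_ne hs.1 hs.2) hgs.1)

theorem special_inv {g : G} (hg : g ∈ Q.special) : g⁻¹ ∈ Q.special := by
  obtain ⟨hg, hne⟩ := hg
  refine ⟨inv_mem hg, fun h => hne ?_⟩
  have h1 : Q.lamHom (⟨g, hg⟩⁻¹ : Q.C) * Q.lamHom ⟨g, hg⟩ = 1 := by rw [← map_mul, inv_mul_cancel, map_one]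
  change Q.lam ⟨g⁻¹, inv_mem hg⟩ * Q.lam ⟨g, hg⟩ = 1 at h1
  rwa [h, one_mul] at h1

theorem involution_mem_C {u : G} (hu : orderOf u = 2) (huN : u ∈ Q.N) : u ∈ Q.C := by
  haveI : Fact (Nat.Prime 2) := ⟨Nat.prime_two⟩
  obtain ⟨h, hh, hc⟩ := CfsgLib.SylowConj.exists_conj_mem Q.N S Q.S_le_N (zpowers u)
    (IsPGroup.of_card (n := 1) (by rw [Nat.card_zpowers, hu, pow_one])) (zpowers_le.2 huN)
  refine (mem_normalizer_iff.1 (Q.N_le_normalizer_C hh) u).2 ?_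
  have hv : (h * u * h⁻¹) * (h * u * h⁻¹) = 1 := by
    rw [← pow_two, conj_pow, ← hu, pow_orderOf_eq_one]; group
  rcases Q.cases _ (hc u (mem_zpowers u)) with h1 | h1
  · exact Q.zpowers_le_C h1
  · exfalso
    obtain ⟨i, hi⟩ := mem_zpowers_iff.1 h1
    rw [eq_mul_of_inv_mul_eq hi.symm] at hv
    have h2 : Q.b * Q.a ^ i * (Q.b * Q.a ^ i) = (Q.b * Q.b) * ((Q.b⁻¹ * Q.a ^ i * Q.b) * Q.a ^ i) := by group
    rw [h2, Q.conj_zpow', ← zpow_add, neg_add_cancel, zpow_zero, mul_one, Q.sq, ← zpow_natCast, Q.eq_one_iff,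
      Int.natCast_dvd_natCast] at hv
    have h5 := Nat.le_of_dvd (by positivity) hv
    rw [pow_succ] at h5
    have : 0 < 2 ^ k := Nat.two_pow_pos k
    omega

variable [Fintype G]

/-- The character of the centralizer inducing to the supported virtual character of the normalizer. -/
noncomputable def theta (x : Q.C.subgroupOf Q.N) : ℂ := 1 - Q.lam ⟨((x : Q.N) : G), x.2⟩

/-- The restriction of the linear character. -/
noncomputable def lamN : Q.C.subgroupOf Q.N →* ℂ :=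
  Q.lamHom.comp (subgroupOfEquivOfLe Q.C_le_N).toMonoidHom

theorem lamN_apply (x : Q.C.subgroupOf Q.N) : Q.lamN x = Q.lam ⟨((x : Q.N) : G), x.2⟩ := rfl

/-- The supported virtual character of the normalizer. -/
noncomputable def phi : Q.N → ℂ :=
  letI := Fintype.ofFinite Q.N
  Cfsg.indFun (Q.C.subgroupOf Q.N) Q.theta

theorem phi_isClassFunction : Cfsg.IsClassFunction Q.N Q.phi := by
  letI := Fintype.ofFinite Q.N
  exact isClassFunction_indFun _ _

theorem phi_apply_of_not_mem (x : Q.N) (hx : (x : G) ∉ Q.C) : Q.phi x = 0 := by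
  letI := Fintype.ofFinite Q.N
  show Cfsg.indFun _ _ x = 0
  rw [Cfsg.indFun, Finset.sum_eq_zero, mul_zero]
  intro y _
  refine extendByZero_of_not_mem _ _ fun h => hx ?_
  rw [mem_subgroupOf] at h
  have h2 := (mem_normalizer_iff.1 (Q.N_le_normalizer_C y.2) _).1 h
  simpa [mul_assoc] using h2

theorem phi_apply_of_mem (x : Q.N) (hx : (x : G) ∈ Q.C) :
    Q.phi x = 2 - Q.lam ⟨x, hx⟩ - (Q.lam ⟨x, hx⟩)⁻¹ := by
  classical
  letI := Fintype.ofFinite Q.N
  show Cfsg.indFun _ _ x = _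
  set A := 1 - Q.lam ⟨x, hx⟩
  set B := 1 - (Q.lam ⟨x, hx⟩)⁻¹
  have key : ∀ y : Q.N, Cfsg.extendByZero (Q.C.subgroupOf Q.N) Q.theta (y⁻¹ * x * y)
      = if y ∈ Q.C.subgroupOf Q.N then A else B := by
    intro y
    have hm : y⁻¹ * x * y ∈ Q.C.subgroupOf Q.N := by
      rw [mem_subgroupOf]
      simpa using (mem_normalizer_iff.1 (Q.N_le_normalizer_C (inv_mem y.2)) _).1 hx
    rw [extendByZero_coe _ _ ⟨_, hm⟩]
    have hm' : (y : G)⁻¹ * x * (y : G)⁻¹⁻¹ ∈ Q.C := by simpa [mem_subgroupOf] using hm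
    have e1 : Q.theta ⟨y⁻¹ * x * y, hm⟩ = 1 - Q.lam ⟨(y : G)⁻¹ * x * (y : G)⁻¹⁻¹, hm'⟩ := by
      simp [theta]
    rw [e1]
    have h := Q.lam_conj_N (inv_mem y.2) hx hm'
    split_ifs with hy
    · rw [h.1 (inv_mem (mem_subgroupOf.1 hy))]
    · rw [h.2 (fun hh => hy (mem_subgroupOf.2 (by simpa using inv_mem hh)))]
  rw [Cfsg.indFun, Finset.sum_congr rfl (fun y _ => key y), Finset.sum_ite, Finset.sum_const, Finset.sum_const]
  have hc1 : (Finset.univ.filter fun y : Q.N => y ∈ Q.C.subgroupOf Q.N).card = Nat.card (Q.C.subgroupOf Q.N) := by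
    rw [← Fintype.card_subtype, ← Nat.card_eq_fintype_card]
  have hc2 : (Finset.univ.filter fun y : Q.N => ¬ y ∈ Q.C.subgroupOf Q.N).card = Nat.card (Q.C.subgroupOf Q.N) := by
    have h1 := Finset.card_filter_add_card_filter_not (s := Finset.univ) (p := fun y : Q.N => y ∈ Q.C.subgroupOf Q.N)
    rw [hc1, Finset.card_univ, ← Nat.card_eq_fintype_card, ← (Q.C.subgroupOf Q.N).card_mul_index, Q.index_C] at h1
    omega
  rw [hc1, hc2, nsmul_eq_mul, nsmul_eq_mul, ← mul_add,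
    inv_mul_cancel_left₀ (Nat.cast_ne_zero.mpr Nat.card_pos.ne')]
  simp only [A, B]; ring

theorem phi_supp (x : Q.N) (hx : (x : G) ∉ Q.special) : Q.phi x = 0 := by
  by_cases h : (x : G) ∈ Q.C
  · rw [Q.phi_apply_of_mem x h]
    have : Q.lam ⟨x, h⟩ = 1 := not_not.1 fun h' => hx ⟨h, h'⟩
    rw [this]; norm_num
  · exact Q.phi_apply_of_not_mem x h

theorem phi_ne_zero {x : Q.N} (hx : (x : G) ∈ Q.special) : Q.phi x ≠ 0 := by
  obtain ⟨h, hne⟩ := hx
  rw [Q.phi_apply_of_mem x h]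
  intro h0
  have h1 := Q.lam_ne_zero ⟨x, h⟩
  have h2 : (Q.lam ⟨x, h⟩ - 1) ^ 2 = 0 := by
    field_simp at h0
    linear_combination -h0
  exact hne (sub_eq_zero.1 (pow_eq_zero_iff two_ne_zero |>.1 h2))

theorem sum_lamN_pow [Fintype (Q.C.subgroupOf Q.N)] (j : ℕ) (hj : Complex.I ^ j ≠ 1) :
    ∑ x, Q.lamN x ^ j = 0 := by
  have h := sum_hom_units_eq_zero (Q.lamN ^ j) (fun h => hj ?_)
  · simpa using h
  · have := DFunLike.congr_fun h ⟨⟨Q.a, Q.S_le_N Q.ha⟩, mem_subgroupOf.2 Q.a_mem_C⟩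
    simpa [lamN_apply, Q.lam_a] using this

theorem phi_gen : Cfsg.IsGeneralizedCharacter Q.N Q.phi := by
  letI := Fintype.ofFinite Q.N
  refine gen_indFun _ ?_
  have h1 := gen_of_character (isCharacter_monoidHom Q.lamN)
  have h2 := gen_of_character (isCharacter_of_irr (isIrrCharacter_one (G := Q.C.subgroupOf Q.N)))
  exact gen_sub h2 h1

/-- The virtual character of the group. -/
noncomputable def Phi : G → ℂ := Cfsg.indFun Q.N Q.phi

theorem Phi_gen : Cfsg.IsGeneralizedCharacter G Q.Phi := gen_indFun _ Q.phi_gen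

theorem Phi_eq_zero {g : G} (h : ∀ x : G, x * g * x⁻¹ ∉ Q.special) : Q.Phi g = 0 :=
  indFun_eq_zero_of_no_conj Q.phi_supp g h

theorem Phi_eq_zero_of_not_dvd {g : G} (h : ¬ 4 ∣ orderOf g) : Q.Phi g = 0 := by
  refine Q.Phi_eq_zero fun x ⟨hx, hne⟩ => h ?_
  have h1 := Q.four_dvd_two_pow.trans (Q.dvd_orderOf_of_lam_ne hx hne)
  rwa [← MulAut.conj_apply, MulEquiv.orderOf_eq] at h1

theorem Phi_one : Q.Phi 1 = 0 := Q.Phi_eq_zero_of_not_dvd (by simp)

theorem Phi_apply_special (x : Q.N) (hx : (x : G) ∈ Q.special) : Q.Phi x ≠ 0 := by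
  show Cfsg.indFun _ _ _ ≠ 0
  rw [indFun_apply_of_mem Q.special_ti Q.phi_isClassFunction Q.phi_supp x hx]
  exact Q.phi_ne_zero hx

theorem phi_conj_apply (x : Q.C.subgroupOf Q.N) :
    conj (Q.phi x) = 2 - Q.lamN x - Q.lamN x ^ 3 := by
  rw [Q.phi_apply_of_mem _ (mem_subgroupOf.1 x.2), map_sub, map_sub, map_inv₀, Q.conj_lam, inv_inv]
  have h4 := Q.lam_pow_four ⟨((x : Q.N) : G), x.2⟩
  have h0 := Q.lam_ne_zero ⟨((x : Q.N) : G), x.2⟩
  have h3 : (Q.lam ⟨((x : Q.N) : G), x.2⟩)⁻¹ = Q.lam ⟨((x : Q.N) : G), x.2⟩ ^ 3 := by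
    field_simp
    linear_combination -h4
  rw [lamN_apply, h3]
  simp only [map_ofNat]
  ring

theorem phi_norm [Fintype Q.N] : Cfsg.classInner Q.phi Q.phi = 3 ∧ Cfsg.classInner Q.phi (fun _ => 1) = 1 := by
  haveI := Fintype.ofFinite (Q.C.subgroupOf Q.N)
  have hphi : Q.phi = Cfsg.indFun (Q.C.subgroupOf Q.N) Q.theta := by
    unfold phi
    congr 1
    exact Subsingleton.elim _ _
  have hI1 : Complex.I ^ 1 ≠ 1 := by simp [Complex.ext_iff]
  have hI2 : Complex.I ^ 2 ≠ 1 := by norm_num [Complex.I_sq]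
  have hI3 : Complex.I ^ 3 ≠ 1 := by norm_num [pow_succ, Complex.ext_iff]
  have hcard : (Nat.card (Q.C.subgroupOf Q.N) : ℂ) ≠ 0 := Nat.cast_ne_zero.mpr Nat.card_pos.ne'
  constructor
  · conv_lhs => arg 1; rw [hphi]
    rw [classInner_indFun _ _ Q.phi_isClassFunction, classInner_eq]
    have e : ∀ x : Q.C.subgroupOf Q.N, Q.theta x * conj (Q.phi x)
        = 3 - 3 * Q.lamN x ^ 1 - Q.lamN x ^ 3 + Q.lamN x ^ 2 := by
      intro x
      rw [Q.phi_conj_apply, theta, ← Q.lamN_apply]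
      have h4 : Q.lamN x ^ 4 = 1 := Q.lam_pow_four _
      linear_combination h4
    rw [Finset.sum_congr rfl (fun x _ => e x), Finset.sum_add_distrib, Finset.sum_sub_distrib,
      Finset.sum_sub_distrib, ← Finset.mul_sum, Q.sum_lamN_pow 1 hI1, Q.sum_lamN_pow 2 hI2, Q.sum_lamN_pow 3 hI3,
      Finset.sum_const, Finset.card_univ, ← Nat.card_eq_fintype_card, nsmul_eq_mul]
    field_simp
    ring
  · conv_lhs => arg 1; rw [hphi]
    rw [classInner_indFun _ _ (isClassFunction (isCharacter_of_irr isIrrCharacter_one)), classInner_eq]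
    have e : ∀ x : Q.C.subgroupOf Q.N, Q.theta x * conj ((fun _ : Q.N => (1 : ℂ)) x) = 1 - Q.lamN x ^ 1 := by
      intro x
      simp [theta, lamN_apply]
    rw [Finset.sum_congr rfl (fun x _ => e x), Finset.sum_sub_distrib, Q.sum_lamN_pow 1 hI1, sub_zero,
      Finset.sum_const, Finset.card_univ, ← Nat.card_eq_fintype_card, nsmul_eq_mul, mul_one]
    field_simp

/-- The two exceptional characters. -/
theorem exists_pair : ∃ χ₁ χ₂ : Cfsg.IrrCharacter G, (χ₁ : G → ℂ) ≠ (fun _ => 1) ∧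
    (χ₂ : G → ℂ) ≠ (fun _ => 1) ∧ χ₁ ≠ χ₂ ∧ Q.Phi = (fun _ => 1) - (χ₁ : G → ℂ) + (χ₂ : G → ℂ) := by
  letI := Fintype.ofFinite Q.N
  refine norm_three_cases Q.Phi_gen ?_ Q.Phi_one ?_
  · rw [Phi, classInner_indFun_indFun Q.special_ti Q.phi_isClassFunction Q.phi_supp Q.phi_supp]
    exact Q.phi_norm.1
  · rw [Phi, classInner_indFun _ _ (isClassFunction (isCharacter_of_irr isIrrCharacter_one))]
    exact Q.phi_norm.2

theorem Phi_mul_involutions {u v : G} (hu : orderOf u = 2) (hv : orderOf v = 2) : Q.Phi (u * v) = 0 := by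
  refine Q.Phi_eq_zero fun x hx => ?_
  set a := x * u * x⁻¹
  set c := x * v * x⁻¹
  have ha : orderOf a = 2 := by rw [show a = MulAut.conj x u from rfl, MulEquiv.orderOf_eq, hu]
  have hc : orderOf c = 2 := by rw [show c = MulAut.conj x v from rfl, MulEquiv.orderOf_eq, hv]
  have hac : x * (u * v) * x⁻¹ = a * c := by simp only [a, c]; group
  rw [hac] at hx
  clear_value a c
  have haa : a * a = 1 := by rw [← pow_two, ← ha, pow_orderOf_eq_one]
  have hcc : c * c = 1 := by rw [← pow_two, ← hc, pow_orderOf_eq_one]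
  have hainv : a⁻¹ = a := inv_eq_of_mul_eq_one_right haa
  have hcinv : c⁻¹ = c := inv_eq_of_mul_eq_one_right hcc
  have haN : a ∈ Q.N := by
    by_contra hn
    refine Q.special_ti.ti a hn _ hx ?_
    convert Q.special_inv hx using 1
    rw [mul_inv_rev, hainv, hcinv, ← mul_assoc, haa, one_mul]
  have hcN : c ∈ Q.N := by
    have := mul_mem haN (Q.C_le_N hx.1)
    rwa [← mul_assoc, haa, one_mul] at this
  have haC := Q.involution_mem_C ha haN
  have hcC := Q.involution_mem_C hc hcN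
  apply hx.2
  show Q.lamHom (⟨a, haC⟩ * ⟨c, hcC⟩) = 1
  rw [map_mul]
  show Q.lam _ * Q.lam _ = 1
  rw [Q.lam_eq_one_of_not_dvd haC (by rw [ha]; norm_num), Q.lam_eq_one_of_not_dvd hcC (by rw [hc]; norm_num), mul_one]

/-- The common kernel of the exceptional characters contains all involutions and none of the special elements. -/
theorem exists_kernel : ∃ M : Subgroup G, M.Normal ∧ (∀ u : G, orderOf u = 2 → u ∈ M) ∧
    (∀ g ∈ Q.special, g ∉ M) ∧ ¬ commutator G ≤ M := by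
  obtain ⟨χ₁, χ₂, h1, h2, -, hPhi⟩ := Q.exists_pair
  have hc1 := isCharacter_of_irr χ₁.2
  have hc2 := isCharacter_of_irr χ₂.2
  obtain ⟨d, hd, hd'⟩ := degree_eq χ₁
  obtain ⟨e, he, he'⟩ := degree_eq χ₂
  have hval : ∀ g, Q.Phi g = 1 - (χ₁ : G → ℂ) g + (χ₂ : G → ℂ) g := fun g => by rw [hPhi]; rfl
  have hdeg : d = e + 1 := by
    have := hval 1
    rw [Q.Phi_one, hd', he'] at this
    have h3 : (d : ℂ) = ((e + 1 : ℕ) : ℂ) := by push_cast; linear_combination this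
    exact_mod_cast h3
  have hker : ∀ u : G, orderOf u = 2 →
      (χ₁ : G → ℂ) u = (χ₁ : G → ℂ) 1 ∧ (χ₂ : G → ℂ) u = (χ₂ : G → ℂ) 1 := by
    intro u hu
    have hu0 : (χ₁ : G → ℂ) u = (χ₂ : G → ℂ) u + 1 := by
      have := hval u
      rw [Q.Phi_eq_zero_of_not_dvd (by rw [hu]; norm_num)] at this
      linear_combination this
    have hsum : ∑ x : G, Q.Phi (x * u * x⁻¹ * u) = 0 := Finset.sum_eq_zero fun x _ =>
      Q.Phi_mul_involutions (by rw [← MulAut.conj_apply, MulEquiv.orderOf_eq, hu]) hu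
    simp only [hval, Finset.sum_add_distrib, Finset.sum_sub_distrib, Finset.sum_const, Finset.card_univ,
      nsmul_eq_mul, mul_one, ← Nat.card_eq_fintype_card] at hsum
    have e1 := sum_conj_apply_mul χ₁.2 u u
    have e2 := sum_conj_apply_mul χ₂.2 u u
    rw [hd', hdeg, hu0] at e1
    rw [he'] at e2
    push_cast at e1
    have hG : (Nat.card G : ℂ) ≠ 0 := Nat.cast_ne_zero.mpr Nat.card_pos.ne'
    have hsq : ((χ₂ : G → ℂ) u - e) ^ 2 = 0 := by
      apply mul_left_cancel₀ hG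
      linear_combination ((e : ℂ) + 1) * e * hsum + (e : ℂ) * e1 - ((e : ℂ) + 1) * e2
    have h3 := sub_eq_zero.1 (pow_eq_zero_iff two_ne_zero |>.1 hsq)
    exact ⟨by rw [hd', hdeg, hu0, h3]; push_cast; rfl, by rw [he', h3]⟩
  refine ⟨charKer _ hc1 ⊓ charKer _ hc2, ?_, fun u hu => ⟨(hker u hu).1, (hker u hu).2⟩, ?_, ?_⟩
  · haveI := charKer_normal hc1
    haveI := charKer_normal hc2
    exact Subgroup.normal_inf_normal _ _
  · rintro g hg ⟨hg1, hg2⟩
    refine Q.Phi_apply_special ⟨g, Q.special_ti.subset hg⟩ hg ?_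
    show Q.Phi g = 0
    rw [hval, show (χ₁ : G → ℂ) g = _ from hg1, show (χ₂ : G → ℂ) g = _ from hg2, ← hval, Q.Phi_one]
  · intro hle
    haveI := charKer_normal hc1
    obtain ⟨ψ, hψ⟩ := exists_quotient_irr χ₁ (charKer _ hc1) (fun g hg => hg)
    haveI : IsMulCommutative (G ⧸ charKer _ hc1) :=
      Subgroup.Normal.quotient_commutative_iff_commutator_le.2 (hle.trans inf_le_left)
    have h3 := apply_one (isCharacter_of_irr ψ.2)
    rw [charDegree_comm ψ.2] at h3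
    have h4 := hψ 1
    rw [QuotientGroup.mk_one, h3, hd'] at h4
    norm_cast at h4
    omega

theorem zpowers_of_mem_kernel {M : Subgroup G} (hM : M.Normal) (hsp : ∀ g ∈ Q.special, g ∉ M) {x : G}
    (hx : x ∈ S) (hxM : x ∈ M) : x ∈ zpowers Q.a := by
  rcases Q.cases x hx with h | h
  · exact h
  · exfalso
    obtain ⟨i, hi⟩ := mem_zpowers_iff.1 h
    have h1 : x * Q.a * x⁻¹ * Q.a⁻¹ ∈ M := by
      have := mul_mem hxM (hM.conj_mem _ (inv_mem hxM) Q.a)
      simpa [mul_assoc] using this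
    have h2 : x * Q.a * x⁻¹ * Q.a⁻¹ = Q.a ^ (-2 : ℤ) := by
      rw [eq_mul_of_inv_mul_eq hi.symm]
      have h3 := Q.conj_zpow 1
      calc Q.b * Q.a ^ i * Q.a * (Q.b * Q.a ^ i)⁻¹ * Q.a⁻¹ = (Q.b * Q.a ^ (1 : ℤ) * Q.b⁻¹) * Q.a⁻¹ := by group
        _ = _ := by rw [h3]; group
    rw [h2] at h1
    refine hsp _ ⟨zpow_mem Q.a_mem_C _, ?_⟩ h1
    have h4 : Q.lam ⟨Q.a ^ (-2 : ℤ), zpow_mem Q.a_mem_C _⟩ = Complex.I ^ (-2 : ℤ) :=
      Q.lam_eq _ (by simp [HasExp])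
    rw [h4, zpow_neg, zpow_ofNat, Complex.I_sq]
    norm_num

end QuatData

end CfsgLib.Exceptional
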