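import Mathlib
import Cfsg.Agent.S1528
import Cfsg.Agent.CharBasics.Extra
import Cfsg.Agent.Exceptional.Virtual
import Cfsg.Agent.Exceptional.Coherence

/-! Characters of a group with a self-centralizing normal subgroup (Frobenius kernel): relevant and irrelevant ones. -/

set_option autoImplicit false

namespace CfsgLib.Exceptional

open CfsgLib.CharBasics
open scoped ComplexConjugate

universe u

variable {X : Type u} [Group X]

/-- `χ` is relevant for `K`: it is not constant on `K`. -/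
def Rel (K : Subgroup X) (χ : X → ℂ) : Prop := ∃ k : X, k ∈ K ∧ χ k ≠ χ 1

theorem not_rel {K : Subgroup X} {χ : X → ℂ} (h : ¬ Rel K χ) {k : X} (hk : k ∈ K) : χ k = χ 1 :=
  not_not.1 fun h' => h ⟨k, hk, h'⟩

theorem indFun_zero_off [Fintype X] (K : Subgroup X) [K.Normal] (φ : K → ℂ) {x : X} (hx : x ∉ K) :
    Cfsg.indFun K φ x = 0 := by
  rw [Cfsg.indFun, Finset.sum_eq_zero, mul_zero]
  intro y _
  refine extendByZero_of_not_mem _ _ fun h => hx ?_
  have h2 := (inferInstance : K.Normal).conj_mem _ h y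
  simpa [mul_assoc] using h2

theorem int_of_mul_nat {ι : Type*} (s : Finset ι) (p : ι → ℕ) (k e : ℕ) (hk : 0 < k)
    (hdvd : ∀ i ∈ s, p i ∣ k) (hsum : e * ∑ i ∈ s, p i ^ 2 + 1 = k) (hne : s.Nonempty) (x : ℂ)
    (hx : ∀ i ∈ s, ∃ m : ℤ, x * (p i : ℂ) = m) : ∃ m : ℤ, x = m := by
  classical
  choose m hm using hx
  obtain ⟨i₀, hi₀⟩ := hne
  obtain ⟨q, hq⟩ := hdvd i₀ hi₀
  refine ⟨(q : ℤ) * m i₀ hi₀ - ∑ i ∈ s.attach, (e : ℤ) * p i.1 * m i.1 i.2, ?_⟩
  have h1 : ((q : ℤ) * m i₀ hi₀ : ℤ) = (x * (k : ℂ)) := by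
    push_cast
    rw [← hm i₀ hi₀, hq]; push_cast; ring
  have h2 : ((∑ i ∈ s.attach, (e : ℤ) * p i.1 * m i.1 i.2 : ℤ) : ℂ) = x * ((e * ∑ i ∈ s, p i ^ 2 : ℕ) : ℂ) := by
    push_cast
    rw [Finset.mul_sum, Finset.mul_sum, ← Finset.sum_attach s (fun i => x * ((e : ℂ) * (p i : ℂ) ^ 2))]
    refine Finset.sum_congr rfl fun i _ => ?_
    rw [← hm i.1 i.2]; ring
  rw [Int.cast_sub, h1, h2, ← hsum]
  push_cast; ring

variable [Fintype X] (K : Subgroup X) [K.Normal]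
variable (hC : ∀ n ∈ K, n ≠ 1 → Subgroup.centralizer ({n} : Set X) ≤ K)

include hC

/-- Relevant characters are induced from `K`. -/
theorem rel_induced {χ : X → ℂ} (hχ : Cfsg.IsIrrCharacter X χ) (hr : Rel K χ) :
    (∀ x, x ∉ K → χ x = 0) ∧ ∃ p : ℕ, 0 < p ∧ p ∣ Nat.card K ∧ χ 1 = ((K.index * p : ℕ) : ℂ) ∧
      (IsMulCommutative K → p = 1) := by
  obtain ⟨φ, hφ, rfl⟩ := Cfsg.Agent.S1528.result K hC χ hχ hr
  refine ⟨fun x hx => indFun_zero_off K φ hx, Cfsg.charDegree φ, charDegree_pos hφ, degree_dvd ⟨φ, hφ⟩, ?_,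
    fun hab => by haveI := hab; exact charDegree_comm hφ⟩
  rw [indFun_apply_one, apply_one (isCharacter_of_irr hφ)]
  push_cast; ring

theorem rel_ne_one {χ : X → ℂ} (_hχ : Cfsg.IsIrrCharacter X χ) (hr : Rel K χ) : χ ≠ fun _ => 1 := by
  rintro rfl
  obtain ⟨k, -, hk⟩ := hr
  exact hk rfl

/-- A relevant character sums to zero over `K`. -/
theorem rel_sum_eq_zero [Fintype K] {χ : X → ℂ} (hχ : Cfsg.IsIrrCharacter X χ) (hr : Rel K χ) :
    ∑ k : K, χ k = 0 := by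
  classical
  have h := sum_irr_eq_zero hχ (rel_ne_one K hC hχ hr)
  rw [← h, ← Finset.sum_subset (Finset.subset_univ (Finset.univ.map (Function.Embedding.subtype fun x => x ∈ K)))
    (fun x _ hx => (rel_induced K hC hχ hr).1 x fun hxK => hx (by simp [hxK])), Finset.sum_map]
  rfl

omit [K.Normal] hC in
theorem sum_split [Fintype (Cfsg.IrrCharacter X)] [DecidablePred fun χ : Cfsg.IrrCharacter X => Rel K (χ : X → ℂ)]
    (f : Cfsg.IrrCharacter X → ℂ) :
    ∑ χ : Cfsg.IrrCharacter X, f χ = ∑ χ ∈ Finset.univ.filter (fun χ : Cfsg.IrrCharacter X => Rel K (χ : X → ℂ)), f χ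
      + ∑ χ ∈ Finset.univ.filter (fun χ : Cfsg.IrrCharacter X => ¬ Rel K (χ : X → ℂ)), f χ :=
  (Finset.sum_filter_add_sum_filter_not _ _ _).symm

/-- The degree sums over relevant and irrelevant characters. -/
theorem degree_sums [Fintype (Cfsg.IrrCharacter X)] [DecidablePred fun χ : Cfsg.IrrCharacter X => Rel K (χ : X → ℂ)]
    (hK : K ≠ ⊥) :
    (∑ χ ∈ Finset.univ.filter (fun χ : Cfsg.IrrCharacter X => ¬ Rel K (χ : X → ℂ)),
        Cfsg.charDegree (χ : X → ℂ) ^ 2 = K.index) ∧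
      (∀ k ∈ K, k ≠ 1 → ∑ χ ∈ Finset.univ.filter (fun χ : Cfsg.IrrCharacter X => Rel K (χ : X → ℂ)),
        (Cfsg.charDegree (χ : X → ℂ) : ℂ) * (χ : X → ℂ) k = -(K.index : ℂ)) ∧
      ∑ χ ∈ Finset.univ.filter (fun χ : Cfsg.IrrCharacter X => Rel K (χ : X → ℂ)),
        Cfsg.charDegree (χ : X → ℂ) ^ 2 + K.index = Nat.card X := by
  classical
  haveI := Fintype.ofFinite K
  set T := ∑ χ ∈ Finset.univ.filter (fun χ : Cfsg.IrrCharacter X => ¬ Rel K (χ : X → ℂ)),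
    Cfsg.charDegree (χ : X → ℂ) ^ 2 with hT
  have hirr : ∀ k ∈ K, ∑ χ ∈ Finset.univ.filter (fun χ : Cfsg.IrrCharacter X => ¬ Rel K (χ : X → ℂ)),
      (Cfsg.charDegree (χ : X → ℂ) : ℂ) * (χ : X → ℂ) k = (T : ℂ) := by
    intro k hk
    rw [hT, Nat.cast_sum]
    refine Finset.sum_congr rfl fun χ hχ => ?_
    rw [not_rel (Finset.mem_filter.1 hχ).2 hk, apply_one (isCharacter_of_irr χ.2)]
    push_cast; ring
  have hk0 : ∀ k ∈ K, k ≠ 1 → ∑ χ ∈ Finset.univ.filter (fun χ : Cfsg.IrrCharacter X => Rel K (χ : X → ℂ)),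
      (Cfsg.charDegree (χ : X → ℂ) : ℂ) * (χ : X → ℂ) k = -(T : ℂ) := by
    intro k hk hk1
    have h := sum_mul_degree hk1
    rw [sum_split K, hirr k hk] at h
    exact eq_neg_of_add_eq_zero_left h
  have hsq := sum_sq_degree (G := X)
  rw [← Finset.sum_filter_add_sum_filter_not Finset.univ (fun χ : Cfsg.IrrCharacter X => Rel K (χ : X → ℂ))] at hsq
  -- the column sums over `K`
  have htot : ∑ k : K, ∑ χ : Cfsg.IrrCharacter X, (Cfsg.charDegree (χ : X → ℂ) : ℂ) * (χ : X → ℂ) k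
      = (Nat.card X : ℂ) := by
    rw [Fintype.sum_eq_single (1 : K) (fun k hk => sum_mul_degree fun h => hk (Subtype.ext h)), ← sum_sq_degree,
      Nat.cast_sum]
    refine Finset.sum_congr rfl fun χ _ => ?_
    rw [Subgroup.coe_one, apply_one (isCharacter_of_irr χ.2)]
    push_cast; ring
  have hTe : T = K.index := by
    rw [Finset.sum_congr rfl (fun (k : K) _ => sum_split K _), Finset.sum_add_distrib, Finset.sum_comm,
      Finset.sum_eq_zero (fun χ hχ => by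
        rw [← Finset.mul_sum, rel_sum_eq_zero K hC χ.2 (Finset.mem_filter.1 hχ).2, mul_zero]),
      zero_add, Finset.sum_congr rfl (fun (k : K) _ => hirr k k.2), Finset.sum_const, Finset.card_univ,
      ← Nat.card_eq_fintype_card, nsmul_eq_mul, ← K.card_mul_index, Nat.cast_mul] at htot
    exact_mod_cast mul_left_cancel₀ (Nat.cast_ne_zero.2 Nat.card_pos.ne') htot
  refine ⟨hTe, fun k hk hk1 => by rw [hk0 k hk hk1, hTe], ?_⟩
  have _hK := hK
  rw [← hTe]
  exact hsq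

/-- `e ∑ p² + 1 = |K|` in the form needed for integrality. -/
theorem rel_degree_identity [Fintype (Cfsg.IrrCharacter X)]
    [DecidablePred fun χ : Cfsg.IrrCharacter X => Rel K (χ : X → ℂ)] (hK : K ≠ ⊥)
    (p : Cfsg.IrrCharacter X → ℕ)
    (hp : ∀ χ : Cfsg.IrrCharacter X, Rel K (χ : X → ℂ) → (χ : X → ℂ) 1 = ((K.index * p χ : ℕ) : ℂ)) :
    K.index * ∑ χ ∈ Finset.univ.filter (fun χ : Cfsg.IrrCharacter X => Rel K (χ : X → ℂ)), p χ ^ 2 + 1
      = Nat.card K := by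
  obtain ⟨-, -, h⟩ := degree_sums K hC hK
  have h1 : ∑ χ ∈ Finset.univ.filter (fun χ : Cfsg.IrrCharacter X => Rel K (χ : X → ℂ)),
      Cfsg.charDegree (χ : X → ℂ) ^ 2
      = K.index * (K.index * ∑ χ ∈ Finset.univ.filter (fun χ : Cfsg.IrrCharacter X => Rel K (χ : X → ℂ)), p χ ^ 2) := by
    rw [← mul_assoc, Finset.mul_sum]
    refine Finset.sum_congr rfl fun χ hχ => ?_
    have h2 : Cfsg.charDegree (χ : X → ℂ) = K.index * p χ := by
      have := hp χ (Finset.mem_filter.1 hχ).2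
      rw [apply_one (isCharacter_of_irr χ.2)] at this
      exact_mod_cast this
    rw [h2]; ring
  rw [h1, ← K.card_mul_index, mul_comm (Nat.card K)] at h
  have he : 0 < K.index := Nat.pos_of_ne_zero Subgroup.index_ne_zero_of_finite
  refine Nat.eq_of_mul_eq_mul_left he ?_
  rw [mul_add, mul_one]
  exact h

/-- Values on `K` of a class function with proportional relevant coefficients, up to prescribed deviations. -/
theorem value_formula [Fintype (Cfsg.IrrCharacter X)]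
    [DecidablePred fun χ : Cfsg.IrrCharacter X => Rel K (χ : X → ℂ)]
    (f : X → ℂ) (hf : Cfsg.IsClassFunction X f) (δ : Cfsg.IrrCharacter X → ℂ) (r : ℂ)
    (hc : ∀ χ : Cfsg.IrrCharacter X, Rel K (χ : X → ℂ) →
      Cfsg.classInner f (χ : X → ℂ) = δ χ + r * (χ : X → ℂ) 1)
    {k : X} (hk : k ∈ K) (hk1 : k ≠ 1) :
    f k = ∑ χ ∈ Finset.univ.filter (fun χ : Cfsg.IrrCharacter X => Rel K (χ : X → ℂ)), δ χ * (χ : X → ℂ) k
      + (∑ χ ∈ Finset.univ.filter (fun χ : Cfsg.IrrCharacter X => ¬ Rel K (χ : X → ℂ)),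
          Cfsg.classInner f (χ : X → ℂ) * (χ : X → ℂ) 1) - r * K.index := by
  have hK : K ≠ ⊥ := fun h => hk1 (by rwa [h, Subgroup.mem_bot] at hk)
  obtain ⟨-, h2, -⟩ := degree_sums K hC hK
  conv_lhs => rw [classFun_expand hf, Finset.sum_apply]
  rw [sum_split K]
  simp only [Pi.smul_apply, smul_eq_mul]
  have e1 : ∑ χ ∈ Finset.univ.filter (fun χ : Cfsg.IrrCharacter X => Rel K (χ : X → ℂ)),
      Cfsg.classInner f (χ : X → ℂ) * (χ : X → ℂ) k
      = ∑ χ ∈ Finset.univ.filter (fun χ : Cfsg.IrrCharacter X => Rel K (χ : X → ℂ)), δ χ * (χ : X → ℂ) k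
        - r * K.index := by
    rw [sub_eq_add_neg, ← mul_neg, ← h2 k hk hk1, Finset.mul_sum, ← Finset.sum_add_distrib]
    refine Finset.sum_congr rfl fun χ hχ => ?_
    rw [hc χ (Finset.mem_filter.1 hχ).2, apply_one (isCharacter_of_irr χ.2)]
    ring
  have e2 : ∑ χ ∈ Finset.univ.filter (fun χ : Cfsg.IrrCharacter X => ¬ Rel K (χ : X → ℂ)),
      Cfsg.classInner f (χ : X → ℂ) * (χ : X → ℂ) k
      = ∑ χ ∈ Finset.univ.filter (fun χ : Cfsg.IrrCharacter X => ¬ Rel K (χ : X → ℂ)),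
        Cfsg.classInner f (χ : X → ℂ) * (χ : X → ℂ) 1 :=
    Finset.sum_congr rfl fun χ hχ => by rw [not_rel (Finset.mem_filter.1 hχ).2 hk]
  rw [e1, e2]
  ring

/-- With two relevant characters, none is constant on `K ∖ 1`. -/
theorem rel_not_const {χ ξ : X → ℂ} (hχ : Cfsg.IsIrrCharacter X χ) (hr : Rel K χ)
    (hξ : Cfsg.IsIrrCharacter X ξ) (hr' : Rel K ξ) (hne : χ ≠ ξ) :
    ∃ a ∈ K, ∃ b ∈ K, a ≠ 1 ∧ b ≠ 1 ∧ χ a ≠ χ b := by
  classical
  haveI := Fintype.ofFinite K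
  by_contra hcon
  push Not at hcon
  obtain ⟨k₀, hk₀, hk₀'⟩ := hr
  have hk₀1 : k₀ ≠ 1 := fun h => hk₀' (by rw [h])
  have hr : Rel K χ := ⟨k₀, hk₀, hk₀'⟩
  obtain ⟨hv, p, hp, -, hpd, -⟩ := rel_induced K hC hξ hr'
  have h0 := classInner_ne hχ hξ hne
  rw [classInner_eq, mul_eq_zero] at h0
  have h1 := h0.resolve_left (inv_ne_zero (Nat.cast_ne_zero.2 Nat.card_pos.ne'))
  have hval : ∀ k : K, χ k * conj (ξ k)
      = χ k₀ * conj (ξ k) + (if (k : K) = 1 then (χ 1 - χ k₀) * conj (ξ 1) else 0) := by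
    intro k
    by_cases hk : k = 1
    · subst hk; simp; ring
    · rw [if_neg hk, add_zero, hcon k k.2 k₀ hk₀ (fun h => hk (Subtype.ext h)) hk₀1]
  have h2 : ∑ k : K, χ k * conj (ξ k) = 0 := by
    rw [← h1, ← Finset.sum_subset (Finset.subset_univ (Finset.univ.map (Function.Embedding.subtype fun x => x ∈ K)))
      (fun x _ hx => by
        rw [hv x fun hxK => hx (by simp [hxK]), map_zero, mul_zero]), Finset.sum_map]
    rfl
  rw [Finset.sum_congr rfl (fun k _ => hval k), Finset.sum_add_distrib, ← Finset.mul_sum, ← map_sum,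
    rel_sum_eq_zero K hC hξ hr', map_zero, mul_zero, zero_add, Finset.sum_ite_eq' Finset.univ (1 : K),
    if_pos (Finset.mem_univ _), mul_eq_zero] at h2
  refine h2.elim (fun h => hk₀' (sub_eq_zero.1 h).symm) fun h => ?_
  rw [hpd, Complex.conj_natCast, Nat.cast_eq_zero, mul_eq_zero] at h
  have := Subgroup.index_ne_zero_of_finite (H := K)
  omega

end CfsgLib.Exceptional
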