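import Mathlib
import Cfsg.Agent.Exceptional.TI
import Cfsg.Agent.Exceptional.FrobChar
import Cfsg.Agent.Exceptional.Virtual

/-! A TI subgroup with Frobenius normalizer. -/

set_option autoImplicit false

namespace CfsgLib.Exceptional

open CfsgLib.CharBasics

universe u

variable {G : Type u} [Group G]

theorem indFun_sub' [Fintype G] (H : Subgroup G) (θ η : H → ℂ) :
    Cfsg.indFun H (θ - η) = Cfsg.indFun H θ - Cfsg.indFun H η := by
  funext g
  simp only [Cfsg.indFun, Pi.sub_apply, ← mul_sub, ← Finset.sum_sub_distrib]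
  congr 1
  refine Finset.sum_congr rfl fun x _ => ?_
  by_cases h : x⁻¹ * g * x ∈ H
  · rw [extendByZero_coe H (θ - η) ⟨_, h⟩, extendByZero_coe H θ ⟨_, h⟩, extendByZero_coe H η ⟨_, h⟩]
    rfl
  · rw [extendByZero_of_not_mem H _ h, extendByZero_of_not_mem H _ h, extendByZero_of_not_mem H _ h, sub_zero]

variable (K : Subgroup G)

instance normal_in_normalizer : (K.subgroupOf (Subgroup.normalizer (K : Set G))).Normal :=
  Subgroup.normal_in_normalizer

theorem centralizer_le_in_normalizer (hC : ∀ k ∈ K, k ≠ 1 → Subgroup.centralizer ({k} : Set G) ≤ K) :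
    ∀ n ∈ K.subgroupOf (Subgroup.normalizer (K : Set G)), n ≠ 1 →
      Subgroup.centralizer ({n} : Set ↥(Subgroup.normalizer (K : Set G))) ≤
        K.subgroupOf (Subgroup.normalizer (K : Set G)) := by
  intro n hn hn1 x hx
  rw [Subgroup.mem_subgroupOf] at hn ⊢
  refine hC n hn (fun h => hn1 (Subtype.ext h)) ?_
  rw [Subgroup.mem_centralizer_singleton_iff] at hx ⊢
  exact congrArg Subtype.val hx

theorem frobTI_setup (hTI : ∀ g : G, g ∉ Subgroup.normalizer (K : Set G) → ∀ k ∈ K, g * k * g⁻¹ ∈ K → k = 1) :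
    TISetup (Subgroup.normalizer (K : Set G)) ({g | g ∈ K ∧ g ≠ 1} : Set G) where
  subset := fun g hg => Subgroup.le_normalizer hg.1
  conj_mem := fun h hh s hs =>
    ⟨(Subgroup.mem_normalizer_iff.1 hh s).1 hs.1, fun e => hs.2 (conj_eq_one_iff.1 e)⟩
  ti := fun g hg s hs hgs => hs.2 (hTI g hg s hs.1 hgs.1)

theorem rel_iff_exists (χ : ↥(Subgroup.normalizer (K : Set G)) → ℂ) :
    Rel (K.subgroupOf (Subgroup.normalizer (K : Set G))) χ ↔
      ∃ k : ↥(Subgroup.normalizer (K : Set G)), (k : G) ∈ K ∧ χ k ≠ χ 1 := Iff.rfl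

variable [Fintype G]

/-- Combinations of relevant characters vanishing at `1` are supported on `K ∖ 1`. -/
theorem rel_supp (hC : ∀ k ∈ K, k ≠ 1 → Subgroup.centralizer ({k} : Set G) ≤ K)
    {S : Set (↥(Subgroup.normalizer (K : Set G)) → ℂ)}
    (hS : ∀ χ ∈ S, Cfsg.IsIrrCharacter _ χ ∧ Rel (K.subgroupOf (Subgroup.normalizer (K : Set G))) χ)
    {α : ↥(Subgroup.normalizer (K : Set G)) → ℂ}
    (hα : α ∈ Cfsg.zspanOn S ({1}ᶜ : Set ↥(Subgroup.normalizer (K : Set G)))) :
    Cfsg.IsClassFunction _ α ∧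
      ∀ x : ↥(Subgroup.normalizer (K : Set G)), (x : G) ∉ ({g | g ∈ K ∧ g ≠ 1} : Set G) → α x = 0 := by
  haveI := Fintype.ofFinite ↥(Subgroup.normalizer (K : Set G))
  obtain ⟨hspan, h1⟩ := mem_on_one.1 hα
  have key : Cfsg.IsGeneralizedCharacter _ α ∧ ∀ x, x ∉ K.subgroupOf (Subgroup.normalizer (K : Set G)) → α x = 0 := by
    clear hα h1
    induction hspan using Submodule.span_induction with
    | mem χ hχ =>
      exact ⟨gen_of_character (isCharacter_of_irr (hS χ hχ).1),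
        (rel_induced _ (centralizer_le_in_normalizer K hC) (hS χ hχ).1 (hS χ hχ).2).1⟩
    | zero => exact ⟨gen_zero, fun _ _ => rfl⟩
    | add a b _ _ ha hb => exact ⟨gen_add ha.1 hb.1, fun x hx => by simp [ha.2 x hx, hb.2 x hx]⟩
    | smul c a _ ha => exact ⟨gen_zsmul ha.1 c, fun x hx => by simp [ha.2 x hx]⟩
  refine ⟨gen_isClassFunction key.1, fun x hx => ?_⟩
  by_cases hxK : (x : G) ∈ K
  · have : x = 1 := Subtype.ext (not_not.1 fun h => hx ⟨hxK, h⟩)
    rw [this, h1]
  · exact key.2 x hxK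

end CfsgLib.Exceptional
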