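import Mathlib
import Cfsg.Prelude.Def_OddOrderChar
import Cfsg.Agent.Exceptional.Virtual
import Cfsg.Agent.Exceptional.Coherence

/-! Consequences of the coherence criterion. -/

set_option autoImplicit false

namespace CfsgLib.Exceptional

open CfsgLib.CharBasics
open scoped ComplexConjugate

universe u v

variable {L : Type u} [Group L] [Fintype L] {G : Type v} [Group G] [Fintype G]

/-- An isometry on the span of irreducible characters sends them to irreducible characters up to one sign. -/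
theorem exists_sign {S : Set (L → ℂ)} (hirr : ∀ χ ∈ S, Cfsg.IsIrrCharacter L χ) (htwo : ∃ χ ∈ S, ∃ ψ ∈ S, χ ≠ ψ)
    (τ : (L → ℂ) → (G → ℂ)) (hτ : Cfsg.IsLinearIsometryOn (Cfsg.zspan S) τ)
    (h0 : ∀ α ∈ Cfsg.zspan S, α 1 = 0 → τ α 1 = 0) :
    ∃ ε : ℂ, (ε = 1 ∨ ε = -1) ∧ (∀ χ ∈ S, Cfsg.IsIrrCharacter G (ε • τ χ)) ∧
      (∀ χ ∈ S, ∀ ψ ∈ S, τ χ = τ ψ → χ = ψ) := by
  obtain ⟨χ₀, hχ₀, -⟩ := htwo
  have hτ' : Cfsg.IsLinearIsometryOn ((Submodule.span ℤ S : Submodule ℤ (L → ℂ)) : Set (L → ℂ)) τ := hτ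
  have hmem : ∀ χ ∈ S, χ ∈ Cfsg.zspan S := fun χ hχ => Submodule.subset_span hχ
  have hone : ∀ χ ∈ S, Cfsg.classInner (τ χ) (τ χ) = 1 := fun χ hχ => by
    rw [hτ.2.2.1 χ (hmem χ hχ) χ (hmem χ hχ), classInner_self (hirr χ hχ)]
  have hsig : ∀ χ ∈ S, ∃ (ε : ℤ) (d : ℕ), (ε = 1 ∨ ε = -1) ∧ 0 < d ∧
      Cfsg.IsIrrCharacter G ((ε : ℂ) • τ χ) ∧ τ χ 1 = (ε : ℂ) * d := by
    intro χ hχ
    rcases norm_one_cases (hτ.2.2.2 χ (hmem χ hχ)) (hone χ hχ) with h | h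
    · obtain ⟨d, hd, hd'⟩ := degree_eq (⟨_, h⟩ : Cfsg.IrrCharacter G)
      exact ⟨1, d, Or.inl rfl, hd, by simpa using h, by simpa using hd'⟩
    · obtain ⟨d, hd, hd'⟩ := degree_eq (⟨_, h⟩ : Cfsg.IrrCharacter G)
      refine ⟨-1, d, Or.inr rfl, hd, by simpa using h, ?_⟩
      simp only [Pi.neg_apply] at hd'
      rw [← neg_neg (τ χ 1), hd']; simp
  obtain ⟨ε, e, hε, he, hirr₀, he₀⟩ := hsig χ₀ hχ₀
  obtain ⟨a, ha, ha'⟩ := degree_eq (⟨_, hirr χ₀ hχ₀⟩ : Cfsg.IrrCharacter L)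
  simp only at ha'
  refine ⟨(ε : ℂ), by rcases hε with h | h <;> simp [h], fun χ hχ => ?_, fun χ hχ ψ hψ heq => ?_⟩
  · obtain ⟨δ, d, hδ, hd, hirr₁, hd₁⟩ := hsig χ hχ
    obtain ⟨b, hb, hb'⟩ := degree_eq (⟨_, hirr χ hχ⟩ : Cfsg.IrrCharacter L)
    simp only at hb'
    have hm1 : (b : ℤ) • χ₀ ∈ Submodule.span ℤ S := Submodule.smul_mem _ _ (hmem χ₀ hχ₀)
    have hm2 : (a : ℤ) • χ ∈ Submodule.span ℤ S := Submodule.smul_mem _ _ (hmem χ hχ)
    have hz := h0 _ (sub_mem hm1 hm2) (by simp [ha', hb', mul_comm])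
    rw [iso_sub hτ' hm1 hm2, iso_zsmul hτ' (hmem χ₀ hχ₀), iso_zsmul hτ' (hmem χ hχ)] at hz
    simp only [Pi.sub_apply, Pi.smul_apply] at hz
    simp only [zsmul_eq_mul, he₀, hd₁] at hz
    have hz' : (b : ℤ) * (ε * e) - a * (δ * d) = 0 := by exact_mod_cast hz
    have : δ = ε := by
      rcases hε with h | h <;> rcases hδ with h' | h' <;> subst h <;> subst h' <;>
        first | rfl | (exfalso; have h1 := Nat.mul_pos ha hd; have h2 := Nat.mul_pos hb he; push_cast at hz'; nlinarith)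
    rwa [← this]
  · by_contra hne
    have h1 := hτ.2.2.1 χ (hmem χ hχ) ψ (hmem ψ hψ)
    rw [heq, hone ψ hψ, classInner_ne (hirr χ hχ) (hirr ψ hψ) hne] at h1
    exact one_ne_zero h1

theorem inner_pair_one {a b c d : Cfsg.IrrCharacter G} (hab : a ≠ b) (hcd : c ≠ d)
    (h : Cfsg.classInner ((a : G → ℂ) - (b : G → ℂ)) ((c : G → ℂ) - (d : G → ℂ)) = 1) :
    (a = c ∧ b ≠ d) ∨ (b = d ∧ a ≠ c) := by
  classical
  rw [inner_pair] at h
  have h' := (Int.cast_eq_one (α := ℂ)).1 h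
  split_ifs at h' <;> first | omega | grind

/-- Exceptional characters: an isometry on differences of irreducible characters of one degree. -/
theorem exceptional_family {ι : Type*} [Finite ι] [Nonempty ι] (θ : ι → L → ℂ)
    (hirr : ∀ i, Cfsg.IsIrrCharacter L (θ i)) (hinj : Function.Injective θ) (htwo : ∃ i j : ι, i ≠ j)
    (τ : (L → ℂ) → (G → ℂ)) (hgen : ∀ i j, Cfsg.IsGeneralizedCharacter G (τ (θ i - θ j)))
    (hone : ∀ i j, τ (θ i - θ j) 1 = 0)
    (hinner : ∀ i j k l, Cfsg.classInner (τ (θ i - θ j)) (τ (θ k - θ l)) = Cfsg.classInner (θ i - θ j) (θ k - θ l))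
    (hadd : ∀ i j k, τ (θ i - θ k) = τ (θ i - θ j) + τ (θ j - θ k)) :
    ∃ (ε : ℂ) (f : ι → Cfsg.IrrCharacter G), (ε = 1 ∨ ε = -1) ∧ Function.Injective f ∧
      ∀ i j, τ (θ i - θ j) = ε • ((f i : G → ℂ) - (f j : G → ℂ)) := by
  classical
  obtain ⟨o, q, hoq⟩ := htwo
  have hpair : ∀ i, i ≠ o → ∃ a b : Cfsg.IrrCharacter G, a ≠ b ∧ τ (θ o - θ i) = (a : G → ℂ) - (b : G → ℂ) := by
    intro i hi
    refine norm_two_cases (hgen o i) ?_ (hone o i)
    rw [hinner]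
    simp [classInner_sub_left, classInner_sub_right, classInner_self (hirr _),
      classInner_ne (hirr o) (hirr i) (hinj.ne hi.symm), classInner_ne (hirr i) (hirr o) (hinj.ne hi)]
    norm_num
  choose a b hab hτo using hpair
  have hcross : ∀ i j (hi : i ≠ o) (hj : j ≠ o), i ≠ j →
      (a i hi = a j hj ∧ b i hi ≠ b j hj) ∨ (b i hi = b j hj ∧ a i hi ≠ a j hj) := by
    intro i j hi hj hij
    refine inner_pair_one (hab i hi) (hab j hj) ?_
    rw [← hτo i hi, ← hτo j hj, hinner]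
    simp [classInner_sub_left, classInner_sub_right, classInner_self (hirr _),
      classInner_ne (hirr o) (hirr j) (hinj.ne hj.symm), classInner_ne (hirr i) (hirr o) (hinj.ne hi),
      classInner_ne (hirr i) (hirr j) (hinj.ne hij)]
  -- the common constituent
  have hcom : (∀ i j (hi : i ≠ o) (hj : j ≠ o), a i hi = a j hj) ∨
      (∀ i j (hi : i ≠ o) (hj : j ≠ o), b i hi = b j hj) := by
    by_cases hA : ∀ i j (hi : i ≠ o) (hj : j ≠ o), a i hi = a j hj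
    · exact Or.inl hA
    refine Or.inr ?_
    push Not at hA
    obtain ⟨i, j, hi, hj, hij⟩ := hA
    have hne : i ≠ j := fun h => hij (by subst h; rfl)
    have hbij : b i hi = b j hj := ((hcross i j hi hj hne).resolve_left fun h => hij h.1).1
    suffices hall : ∀ m (hm : m ≠ o), b m hm = b i hi from fun k l hk hl => (hall k hk).trans (hall l hl).symm
    intro m hm
    by_contra hmb
    have hmi : m ≠ i := fun h => hmb (by subst h; rfl)
    have hmj : m ≠ j := fun h => hmb (by subst h; exact hbij.symm)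
    have h1 := ((hcross m i hm hi hmi).resolve_right fun h => hmb h.1).1
    rcases hcross m j hm hj hmj with h2 | h2
    · exact hij (h1.symm.trans h2.1)
    · exact hmb (h2.1.trans hbij.symm)
  have hcase : ∃ (ε : ℂ) (p : Cfsg.IrrCharacter G) (g : ∀ i, i ≠ o → Cfsg.IrrCharacter G), (ε = 1 ∨ ε = -1) ∧
      (∀ i hi, g i hi ≠ p) ∧ (∀ i j hi hj, g i hi = g j hj → i = j) ∧
      (∀ i hi, τ (θ o - θ i) = ε • ((p : G → ℂ) - (g i hi : G → ℂ))) := by
    rcases hcom with hc | hc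
    · refine ⟨1, a q hoq.symm, b, Or.inl rfl, fun i hi => ?_, fun i j hi hj h => ?_, fun i hi => ?_⟩
      · rw [← hc i q hi hoq.symm]; exact (hab i hi).symm
      · by_contra hne
        rcases hcross i j hi hj hne with h' | h'
        · exact h'.2 h
        · exact h'.2 (hc i j hi hj)
      · rw [one_smul, ← hc i q hi hoq.symm, hτo]
    · refine ⟨-1, b q hoq.symm, a, Or.inr rfl, fun i hi => ?_, fun i j hi hj h => ?_, fun i hi => ?_⟩
      · rw [← hc i q hi hoq.symm]; exact hab i hi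
      · by_contra hne
        rcases hcross i j hi hj hne with h' | h'
        · exact h'.2 (hc i j hi hj)
        · exact h'.2 h
      · rw [← hc i q hi hoq.symm, hτo, neg_one_smul, neg_sub]
  obtain ⟨ε, p, g, hε, hgp, hginj, hg⟩ := hcase
  refine ⟨ε, fun i => if h : i = o then p else g i h, hε, fun i j h => ?_, ?_⟩
  · simp only at h
    split_ifs at h with h1 h2 h2
    · rw [h1, h2]
    · exact absurd h.symm (hgp j h2)
    · exact absurd h (hgp i h1)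
    · exact hginj i j h1 h2 h
  have hoo : τ (θ o - θ o) = 0 := by simpa using hadd o o o
  have hfo : ∀ i, τ (θ o - θ i) = ε • ((p : G → ℂ) - ((if h : i = o then p else g i h : Cfsg.IrrCharacter G) : G → ℂ)) := by
    intro i
    split_ifs with h
    · rw [h, hoo, sub_self, smul_zero]
    · exact hg i h
  intro i j
  have h1 := hadd i o j
  have h2 : τ (θ i - θ o) = -τ (θ o - θ i) := eq_neg_of_add_eq_zero_right (by rw [← hadd o i o, hoo])
  rw [h1, h2, hfo i, hfo j]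
  simp only [smul_sub]
  abel

/-- Integer squares dominate their absolute values. -/
theorem sq_sum_bounds {ι : Type*} (s : Finset ι) (a : ι → ℤ) (n : ℤ) (h : ∑ i ∈ s, a i = n) :
    n ≤ ∑ i ∈ s, a i ^ 2 ∧ (∑ i ∈ s, a i ^ 2 ≤ n → ∀ i ∈ s, a i = 0 ∨ a i = 1) := by
  have hnn : ∀ i ∈ s, 0 ≤ a i ^ 2 - a i := fun i _ => by
    have := Int.le_self_sq (a i); omega
  have hs : ∑ i ∈ s, (a i ^ 2 - a i) = ∑ i ∈ s, a i ^ 2 - n := by rw [Finset.sum_sub_distrib, h]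
  refine ⟨by have := Finset.sum_nonneg hnn; omega, fun hle i hi => ?_⟩
  have h0 := (Finset.sum_eq_zero_iff_of_nonneg hnn).1 (le_antisymm (by omega) (Finset.sum_nonneg hnn)) i hi
  have h1 : a i * (a i - 1) = 0 := by rw [← h0]; ring
  rcases mul_eq_zero.1 h1 with h2 | h2 <;> omega

section System
variable {S : Set (L → ℂ)} {τ : (L → ℂ) → (G → ℂ)} {R : (L → ℂ) → Finset (G → ℂ)}

theorem system_orthoSet (hS : Cfsg.IsCoherenceSystem S τ R) : OrthoSet S :=
  ⟨hS.orthogonal, fun χ hχ => self_ne_zero fun h0 => hS.conj_ne χ hχ (by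
    rw [h0]; funext x; simp [Cfsg.conjFun])⟩

theorem system_diff_mem (hS : Cfsg.IsCoherenceSystem S τ R) {χ : L → ℂ} (hχ : χ ∈ S) :
    χ - Cfsg.conjFun χ ∈ Cfsg.zspanOn S ({1}ᶜ : Set L) :=
  mem_on_one.2 ⟨sub_mem (S := Submodule ℤ (L → ℂ)) (Submodule.subset_span hχ)
    (Submodule.subset_span (hS.conj_mem χ hχ)), by simp [conjFun_apply_one (hS.isCharacter χ hχ)]⟩

theorem system_conj_inner (hS : Cfsg.IsCoherenceSystem S τ R) {χ : L → ℂ} (hχ : χ ∈ S) :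
    Cfsg.classInner χ (Cfsg.conjFun χ) = 0 ∧ Cfsg.classInner (Cfsg.conjFun χ) χ = 0 ∧
      ∃ n : ℕ, Cfsg.classInner χ χ = n ∧ Cfsg.classInner (Cfsg.conjFun χ) (Cfsg.conjFun χ) = n := by
  refine ⟨hS.orthogonal χ hχ _ (hS.conj_mem χ hχ) (hS.conj_ne χ hχ).symm,
    hS.orthogonal _ (hS.conj_mem χ hχ) χ hχ (hS.conj_ne χ hχ), ?_⟩
  obtain ⟨n, hn⟩ := classInner_characters_nat (hS.isCharacter χ hχ) (hS.isCharacter χ hχ)
  exact ⟨n, hn, by rw [classInner_conjFun', hn, Complex.conj_natCast]⟩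

/-- The projection of `w` on `R χ`, when `w` pairs with `τ (χ - conj χ)` to `⟨χ, χ⟩`. -/
theorem system_proj (hS : Cfsg.IsCoherenceSystem S τ R) {χ : L → ℂ} (hχ : χ ∈ S) {n : ℕ}
    {w : G → ℂ} (hw : Cfsg.IsGeneralizedCharacter G w)
    (hinner : Cfsg.classInner w (τ (χ - Cfsg.conjFun χ)) = (n : ℂ)) :
    ∃ a : (G → ℂ) → ℤ, (∀ α ∈ R χ, Cfsg.classInner w α = a α) ∧ ∑ α ∈ R χ, a α = n ∧
      (n : ℤ) ≤ ∑ α ∈ R χ, a α ^ 2 ∧ (∑ α ∈ R χ, a α ^ 2 ≤ n → ∀ α ∈ R χ, a α = 0 ∨ a α = 1) := by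
  classical
  have hint : ∀ α : G → ℂ, ∃ m : ℤ, α ∈ R χ → Cfsg.classInner w α = m := fun α => by
    by_cases hα : α ∈ R χ
    · obtain ⟨m, hm⟩ := gen_inner_gen_int hw (hS.virtual χ hχ α hα)
      exact ⟨m, fun _ => hm⟩
    · exact ⟨0, fun h => absurd h hα⟩
  choose a ha using hint
  have hsum : ∑ α ∈ R χ, a α = (n : ℤ) := by
    have h1 : ((∑ α ∈ R χ, a α : ℤ) : ℂ) = ((n : ℤ) : ℂ) := by
      push_cast
      rw [← hinner, hS.sum_eq χ hχ, classInner_sum_right]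
      exact Finset.sum_congr rfl fun α hα => (ha α hα).symm
    exact_mod_cast h1
  exact ⟨a, ha, hsum, (sq_sum_bounds _ _ _ hsum).1, (sq_sum_bounds _ _ _ hsum).2⟩

end System

end CfsgLib.Exceptional
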