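import Mathlib
import Cfsg.Agent.Exceptional.FrobChar
import Cfsg.Agent.Exceptional.OddReal
import Cfsg.Agent.ZJ.Fpf
import Cfsg.Agent.Clifford.LinChar

/-! The characters of least degree not trivial on a nilpotent Frobenius kernel. -/

set_option autoImplicit false

namespace CfsgLib.Exceptional

open CfsgLib.CharBasics
open scoped ComplexConjugate

universe u

theorem isIrr_of_hom {A : Type u} [Group A] [Finite A] (l : A →* ℂˣ) :
    Cfsg.IsIrrCharacter A (fun a => (l a : ℂ)) := by
  haveI := Fintype.ofFinite A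
  have hch : Cfsg.IsCharacter A (fun a => (l a : ℂ)) := by
    let ρ : Representation ℂ A ℂ :=
      { toFun := fun a => (l a : ℂ) • LinearMap.id
        map_one' := by ext; simp
        map_mul' := fun a b => by ext; simp [mul_comm] }
    have : ρ.character = fun a => (l a : ℂ) := by
      funext a
      show LinearMap.trace ℂ ℂ ((l a : ℂ) • LinearMap.id) = _
      rw [map_smul, LinearMap.trace_id, Module.finrank_self]
      simp
    exact this ▸ isCharacter_rep ρ
  refine isIrr_of_norm_one hch ?_
  rw [classInner_eq, Finset.sum_congr rfl (fun a _ => (?_ : (l a : ℂ) * conj (l a : ℂ) = 1)), Finset.sum_const,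
    Finset.card_univ, nsmul_eq_mul, mul_one, ← Nat.card_eq_fintype_card,
    inv_mul_cancel₀ (Nat.cast_ne_zero.2 Nat.card_pos.ne')]
  have h1 : ((l a : ℂ)) ^ Nat.card A = 1 := by
    rw [← Units.val_pow_eq_pow_val, ← map_pow, pow_card_eq_one', map_one, Units.val_one]
  have hn : ‖(l a : ℂ)‖ = 1 := Complex.norm_eq_one_of_pow_eq_one h1 Nat.card_pos.ne'
  rw [Complex.mul_conj', hn]; simp

theorem card_hom_units (A : Type u) [Group A] [Finite A] :
    Nat.card (A →* ℂˣ) = Nat.card (Abelianization A) := by
  rw [Nat.card_congr (Abelianization.lift (G := A) (A := ℂˣ))]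
  exact CommGroup.card_monoidHom_of_hasEnoughRootsOfUnity (Abelianization A) ℂ

theorem card_abelianization_dvd (A : Type u) [Group A] : Nat.card (Abelianization A) ∣ Nat.card A :=
  Subgroup.card_quotient_dvd_card _

theorem comm_of_prime_abelianization {A : Type u} [Group A] [Finite A] [Group.IsNilpotent A]
    (h : (Nat.card (Abelianization A)).Prime) : IsMulCommutative A := by
  haveI := Fact.mk h
  haveI : IsCyclic (Abelianization A) := isCyclic_of_prime_card rfl
  obtain ⟨g, hg⟩ := IsCyclic.exists_zpow_surjective (G := Abelianization A)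
  obtain ⟨x, rfl⟩ := QuotientGroup.mk_surjective g
  have htop : Subgroup.zpowers x = ⊤ := by
    by_contra hne
    obtain ⟨M, hM, hxM⟩ := (eq_top_or_exists_le_coatom (Subgroup.zpowers x)).resolve_left hne
    haveI : M.Normal := Subgroup.NormalizerCondition.normal_of_coatom M Group.normalizerCondition_of_isNilpotent hM
    have hcomm : commutator A ≤ M := by
      haveI : Nontrivial (A ⧸ M) := QuotientGroup.nontrivial_iff.mpr hM.1
      have hlt := Group.IsSolvable.commutator_lt_top_of_nontrivial (A ⧸ M)
      have hpre : M ≤ (commutator (A ⧸ M)).comap (QuotientGroup.mk' M) := fun m hm => by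
        rw [Subgroup.mem_comap, QuotientGroup.mk'_apply, (QuotientGroup.eq_one_iff m).2 hm]
        exact one_mem _
      have hne' : (commutator (A ⧸ M)).comap (QuotientGroup.mk' M) ≠ ⊤ := fun e => hlt.ne (by
        have := congrArg (Subgroup.map (QuotientGroup.mk' M)) e
        rwa [Subgroup.map_comap_eq_self_of_surjective (QuotientGroup.mk'_surjective M),
          Subgroup.map_top_of_surjective _ (QuotientGroup.mk'_surjective M)] at this)
      have heq : (commutator (A ⧸ M)).comap (QuotientGroup.mk' M) = M :=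
        (hpre.eq_or_lt.resolve_right fun h' => hne' (hM.2 _ h')).symm
      intro y hy
      rw [← heq, Subgroup.mem_comap]
      have h2 : (commutator A).map (QuotientGroup.mk' M) ≤ commutator (A ⧸ M) := by
        rw [commutator_def, Subgroup.map_commutator, commutator_def]
        exact Subgroup.commutator_mono le_top le_top
      exact h2 ⟨y, hy, rfl⟩
    apply hM.1
    refine eq_top_iff.2 fun y _ => ?_
    obtain ⟨n, hn⟩ := hg (QuotientGroup.mk y : Abelianization A)
    have h3 : (x ^ n)⁻¹ * y ∈ commutator A := QuotientGroup.eq.1 ((QuotientGroup.mk_zpow (commutator A) x n).trans hn)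
    simpa using mul_mem (hxM (Subgroup.zpow_mem_zpowers x n)) (hcomm h3)
  refine ⟨⟨fun a b => ?_⟩⟩
  obtain ⟨i, rfl⟩ := Subgroup.mem_zpowers_iff.1 (htop ▸ Subgroup.mem_top a)
  obtain ⟨j, rfl⟩ := Subgroup.mem_zpowers_iff.1 (htop ▸ Subgroup.mem_top b)
  rw [← zpow_add, ← zpow_add, add_comm]

variable {X : Type u} [Group X] [Fintype X] (K : Subgroup X) [K.Normal]
  (hC : ∀ n ∈ K, n ≠ 1 → Subgroup.centralizer ({n} : Set X) ≤ K)
include hC

/-- Inducing a non-principal linear character of the kernel gives an irreducible character. -/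
theorem induced_linear_irr (l : K →* ℂˣ) (hl : l ≠ 1) :
    Cfsg.IsIrrCharacter X (Cfsg.indFun K (fun k => (l k : ℂ))) := by
  classical
  haveI := Fintype.ofFinite K
  have hθ := isIrr_of_hom l
  have hchar := isCharacter_indFun K (isCharacter_of_irr hθ)
  obtain ⟨χ, m, hm, hmχ⟩ := exists_constituent hchar (by
    rw [indFun_apply_one]
    simp [Subgroup.index_ne_zero_of_finite])
  have hχc := isClassFunction (isCharacter_of_irr χ.2)
  have hne : (fun k : K => (l k : ℂ)) ≠ fun _ => 1 := fun h => hl (MonoidHom.ext fun k => Units.ext (congrFun h k))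
  have hres : Cfsg.classInner (fun k : K => (l k : ℂ)) (fun k : K => (χ : X → ℂ) k) = m := by
    rw [← classInner_indFun K _ hχc]; exact hmχ
  have hrel : Rel K (χ : X → ℂ) := by
    by_contra hnr
    have hconst : (fun k : K => (χ : X → ℂ) k) = (χ : X → ℂ) 1 • (fun _ : K => (1 : ℂ)) := by
      funext k; simp [not_rel hnr k.2]
    rw [hconst, classInner_smul_right, classInner_ne hθ isIrrCharacter_one hne, mul_zero] at hres
    exact hm.ne' (Nat.cast_eq_zero.1 hres.symm)
  obtain ⟨φ, hφ, hind⟩ := Cfsg.Agent.S1528.result K hC (χ : X → ℂ) χ.2 hrel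
  -- compare degrees: `χ` is a constituent of degree at least the index
  obtain ⟨R, hR, heq⟩ := CfsgLib.Clifford.exists_eq_add_of_constituent hchar χ.2 (by
    rw [hmχ]; exact Nat.cast_ne_zero.2 hm.ne')
  have h1 := congrFun heq 1
  rw [indFun_apply_one, map_one, Units.val_one, Pi.add_apply, hind, indFun_apply_one,
    apply_one (isCharacter_of_irr hφ), apply_one hR] at h1
  have h1' : K.index * 1 = K.index * Cfsg.charDegree φ + Cfsg.charDegree R := by
    have : ((K.index * 1 : ℕ) : ℂ) = ((K.index * Cfsg.charDegree φ + Cfsg.charDegree R : ℕ) : ℂ) := by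
      push_cast; linear_combination h1
    exact_mod_cast this
  have hR0 : Cfsg.charDegree R = 0 := by
    have := Nat.mul_le_mul_left K.index (charDegree_pos hφ)
    omega
  have hR' : R = 0 := CfsgLib.Clifford.eq_zero_of_apply_one hR (by rw [apply_one hR, hR0, Nat.cast_zero])
  rw [heq, hR', add_zero]
  exact χ.2

/-- The number of least-degree relevant characters. -/
theorem card_linear_family [Fintype (Cfsg.IrrCharacter X)]
    [DecidablePred fun χ : Cfsg.IrrCharacter X => Rel K (χ : X → ℂ) ∧ (χ : X → ℂ) 1 = (K.index : ℂ)] :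
    K.index * (Finset.univ.filter fun χ : Cfsg.IrrCharacter X =>
        Rel K (χ : X → ℂ) ∧ (χ : X → ℂ) 1 = (K.index : ℂ)).card + 1 = Nat.card (Abelianization K) := by
  classical
  haveI := Fintype.ofFinite K
  haveI : Finite (K →* ℂˣ) := Nat.finite_of_card_ne_zero (by rw [card_hom_units]; exact Nat.card_pos.ne')
  letI := Fintype.ofFinite (K →* ℂˣ)
  set T := Finset.univ.filter fun χ : Cfsg.IrrCharacter X => Rel K (χ : X → ℂ) ∧ (χ : X → ℂ) 1 = (K.index : ℂ)
  set Λ := (Finset.univ : Finset (K →* ℂˣ)).erase 1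
  -- the scalar product with `χ` restricted tells whether `χ` is induced from `l`
  have hinner : ∀ l ∈ Λ, ∀ χ : Cfsg.IrrCharacter X,
      Cfsg.classInner (fun k : K => (l k : ℂ)) (fun k : K => (χ : X → ℂ) k)
        = if Cfsg.indFun K (fun k => (l k : ℂ)) = (χ : X → ℂ) then 1 else 0 := by
    intro l hl χ
    have hirr := induced_linear_irr K hC l (Finset.ne_of_mem_erase hl)
    rw [← classInner_indFun K _ (isClassFunction (isCharacter_of_irr χ.2))]
    split_ifs with h
    · rw [h, classInner_self χ.2]
    · exact classInner_ne hirr χ.2 h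
  have hmemT : ∀ (l : K →* ℂˣ) (hl : l ∈ Λ),
      (⟨_, induced_linear_irr K hC l (Finset.ne_of_mem_erase hl)⟩ : Cfsg.IrrCharacter X) ∈ T := by
    intro l hl
    simp only [T, Finset.mem_filter, Finset.mem_univ, true_and]
    refine ⟨?_, by rw [indFun_apply_one]; simp⟩
    by_contra hnr
    have h := hinner l hl ⟨_, induced_linear_irr K hC l (Finset.ne_of_mem_erase hl)⟩
    rw [if_pos rfl] at h
    have hconst : (fun k : K => Cfsg.indFun K (fun k => (l k : ℂ)) k)
        = Cfsg.indFun K (fun k => (l k : ℂ)) 1 • (fun _ : K => (1 : ℂ)) := by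
      funext k; simp [not_rel hnr k.2]
    rw [hconst, classInner_smul_right, classInner_ne (isIrr_of_hom l) isIrrCharacter_one
      (fun h => Finset.ne_of_mem_erase hl (MonoidHom.ext fun k => Units.ext (congrFun h k))), mul_zero] at h
    exact zero_ne_one h
  -- each fibre has `K.index` elements
  have hfib : ∀ χ ∈ T, (Λ.filter fun l => Cfsg.indFun K (fun k => ((l k : ℂˣ) : ℂ)) = (χ : X → ℂ)).card = K.index := by
    intro χ hχ
    simp only [T, Finset.mem_filter, Finset.mem_univ, true_and] at hχ
    obtain ⟨r, g, hg, hdec⟩ := exists_decomp (isCharacter_restrict (isCharacter_of_irr χ.2) K)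
    -- every constituent is linear, non-principal and occurs once
    haveI := finite_irrCharacter (G := K)
    letI := Fintype.ofFinite (Cfsg.IrrCharacter K)
    have hexp := classFun_expand (G := K) (f := fun k : K => (χ : X → ℂ) k)
      (isClassFunction (isCharacter_restrict (isCharacter_of_irr χ.2) K))
    have hlin : ∀ θ : Cfsg.IrrCharacter K, Cfsg.classInner (fun k : K => (χ : X → ℂ) k) (θ : K → ℂ) ≠ 0 →
        Cfsg.classInner (fun k : K => (χ : X → ℂ) k) (θ : K → ℂ) = 1 ∧
          ∃ l ∈ Λ, (fun k : K => ((l k : ℂˣ) : ℂ)) = (θ : K → ℂ) ∧ Cfsg.indFun K (θ : K → ℂ) = (χ : X → ℂ) := by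
      intro θ hθ
      have hθ1 : (θ : K → ℂ) ≠ fun _ => 1 := fun h => hθ (by
        rw [h, classInner_eq]; simp [rel_sum_eq_zero K hC χ.2 hχ.1])
      have hchar := isCharacter_indFun K (isCharacter_of_irr θ.2)
      have hne0 : Cfsg.classInner (Cfsg.indFun K (θ : K → ℂ)) (χ : X → ℂ) ≠ 0 := by
        rw [classInner_indFun K _ (isClassFunction (isCharacter_of_irr χ.2)),
          classInner_comm (fun k : K => (χ : X → ℂ) k)]
        exact fun h => hθ ((map_eq_zero _).1 h)
      -- the constituent has degree one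
      have hdeg : Cfsg.charDegree (θ : K → ℂ) = 1 := by
        have h1 := congrFun hexp 1
        rw [Subgroup.coe_one, hχ.2, Finset.sum_apply] at h1
        obtain ⟨φ, hφ, hind⟩ := Cfsg.Agent.S1528.result K hC (χ : X → ℂ) χ.2 hχ.1
        have hφ1 : Cfsg.charDegree φ = 1 := by
          have h2 := congrFun hind 1
          rw [hχ.2, indFun_apply_one, apply_one (isCharacter_of_irr hφ), ← Nat.cast_mul, Nat.cast_inj] at h2
          have := Subgroup.index_ne_zero_of_finite (H := K)
          exact (Nat.eq_of_mul_eq_mul_left (Nat.pos_of_ne_zero this) (by rw [mul_one]; exact h2)).symm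
        have hconj : Cfsg.classInner (fun k : K => (χ : X → ℂ) k) φ ≠ 0 := by
          rw [classInner_comm φ, ← classInner_indFun K _ (isClassFunction (isCharacter_of_irr χ.2)), ← hind,
            classInner_self χ.2, map_one]
          exact one_ne_zero
        obtain ⟨x, hx⟩ := CfsgLib.Clifford.constituent_conj (N := K) χ.2 θ.2 hφ hθ hconj
        have h4 : φ 1 = (θ : K → ℂ) 1 := by
          have h5 := congrFun hx (1 : K)
          simp [CfsgLib.Clifford.conjFun] at h5
          first
            | exact h5.symm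
            | exact h5
        rw [apply_one (isCharacter_of_irr hφ), apply_one (isCharacter_of_irr θ.2), Nat.cast_inj] at h4
        omega
      obtain ⟨φh, hφh⟩ : ∃ l : K →* ℂˣ, (fun k : K => ((l k : ℂˣ) : ℂ)) = (θ : K → ℂ) := by
        obtain ⟨f, hf⟩ := CfsgLib.Clifford.exists_hom_of_linear (isCharacter_of_irr θ.2) (by
          rw [apply_one (isCharacter_of_irr θ.2), hdeg, Nat.cast_one])
        exact ⟨f.toHomUnits, funext fun k => (congrFun hf k).symm⟩
      have hl1 : φh ≠ 1 := fun h => hθ1 (by rw [← hφh, h]; rfl)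
      have hirr := induced_linear_irr K hC φh hl1
      rw [hφh] at hirr
      have heq : Cfsg.indFun K (θ : K → ℂ) = (χ : X → ℂ) := by
        by_contra hne'
        exact hne0 (classInner_ne hirr χ.2 hne')
      refine ⟨?_, φh, Finset.mem_erase.2 ⟨hl1, Finset.mem_univ _⟩, hφh, heq⟩
      rw [classInner_comm (θ : K → ℂ), ← classInner_indFun K _ (isClassFunction (isCharacter_of_irr χ.2)), heq,
        classInner_self χ.2, map_one]
    have h1 := congrFun hexp 1
    rw [Subgroup.coe_one, hχ.2, Finset.sum_apply] at h1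
    set S := Finset.univ.filter fun θ : Cfsg.IrrCharacter K =>
      Cfsg.classInner (fun k : K => (χ : X → ℂ) k) (θ : K → ℂ) ≠ 0
    have hS : (S.card : ℂ) = (K.index : ℂ) := by
      rw [h1, ← Finset.sum_subset (Finset.subset_univ S) (fun θ _ hθ => by
        simp only [S, Finset.mem_filter, Finset.mem_univ, true_and, not_not] at hθ
        rw [Pi.smul_apply, hθ, zero_smul]), Finset.card_eq_sum_ones, Nat.cast_sum]
      refine Finset.sum_congr rfl fun θ hθ => ?_
      obtain ⟨h2, l, -, hl, -⟩ := hlin θ (Finset.mem_filter.1 hθ).2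
      rw [Pi.smul_apply, h2, one_smul, ← congrFun hl 1, map_one, Units.val_one, Nat.cast_one]
    rw [← Nat.cast_inj (R := ℂ), ← hS, Nat.cast_inj]
    refine Finset.card_bij' (fun l _ => (⟨_, isIrr_of_hom l⟩ : Cfsg.IrrCharacter K))
      (fun θ hθ => (hlin θ (Finset.mem_filter.1 hθ).2).2.choose) (fun l hl => ?_) (fun θ hθ => ?_)
      (fun l hl => ?_) (fun θ hθ => ?_)
    · simp only [S, Finset.mem_filter, Finset.mem_univ, true_and]
      obtain ⟨hl1, hl2⟩ := Finset.mem_filter.1 hl
      rw [classInner_comm (fun k : K => (l k : ℂ)), hinner l hl1 χ, if_pos hl2, map_one]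
      exact one_ne_zero
    · obtain ⟨h1, h2, h3⟩ := (hlin θ (Finset.mem_filter.1 hθ).2).2.choose_spec
      exact Finset.mem_filter.2 ⟨h1, by rw [h2]; exact h3⟩
    · apply MonoidHom.ext
      intro k
      apply Units.ext
      have hθ' : (⟨_, isIrr_of_hom l⟩ : Cfsg.IrrCharacter K) ∈ S := by
        simp only [S, Finset.mem_filter, Finset.mem_univ, true_and]
        obtain ⟨hl1, hl2⟩ := Finset.mem_filter.1 hl
        rw [classInner_comm (fun k : K => (l k : ℂ)), hinner l hl1 χ, if_pos hl2, map_one]
        exact one_ne_zero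
      exact congrFun (hlin _ (Finset.mem_filter.1 hθ').2).2.choose_spec.2.1 k
    · exact Subtype.ext (hlin θ (Finset.mem_filter.1 hθ).2).2.choose_spec.2.1
  have hΛ : Λ.card + 1 = Nat.card (Abelianization K) := by
    rw [Finset.card_erase_add_one (Finset.mem_univ _), Finset.card_univ, ← Nat.card_eq_fintype_card, card_hom_units]
  rw [← hΛ]
  congr 1
  let F : (K →* ℂˣ) → Cfsg.IrrCharacter X := fun l =>
    if h : l ≠ 1 then ⟨_, induced_linear_irr K hC l h⟩ else oneChar
  rw [Finset.card_eq_sum_card_fiberwise (f := F) (s := Λ) (t := T) (fun l hl => by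
      have h := hmemT l hl
      simp only [F, dif_pos (Finset.ne_of_mem_erase (Finset.mem_coe.1 hl))]
      exact h), Finset.sum_congr rfl (fun χ hχ => ?_), Finset.sum_const, smul_eq_mul, mul_comm]
  rw [← hfib χ hχ]
  congr 1
  refine Finset.filter_congr fun l hl => ?_
  simp only [F, dif_pos (Finset.ne_of_mem_erase hl)]
  exact ⟨fun h => congrArg Subtype.val h, fun h => Subtype.ext h⟩

end CfsgLib.Exceptional
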