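import Cfsg.Agent.Exceptional.Coherent

/-! Exceptional characters from a Gram matrix. -/

set_option autoImplicit false

namespace CfsgLib.Exceptional

open CfsgLib.CharBasics

universe u

variable {G : Type u} [Group G] [Fintype G]

/-- Exceptional characters: differences with the Gram matrix of differences of orthonormal vectors. -/
theorem exceptional_family_gram {ι : Type*} [DecidableEq ι] [Finite ι] [Nonempty ι] (htwo : ∃ i j : ι, i ≠ j)
    (D : ι → ι → (G → ℂ)) (hgen : ∀ i j, Cfsg.IsGeneralizedCharacter G (D i j)) (hone : ∀ i j, D i j 1 = 0)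
    (hinner : ∀ i j k l, Cfsg.classInner (D i j) (D k l) =
      (if i = k then 1 else 0) - (if i = l then 1 else 0) - (if j = k then 1 else 0) + (if j = l then 1 else 0))
    (hadd : ∀ i j k, D i k = D i j + D j k) :
    ∃ (ε : ℂ) (f : ι → Cfsg.IrrCharacter G), (ε = 1 ∨ ε = -1) ∧ Function.Injective f ∧
      ∀ i j, D i j = ε • ((f i : G → ℂ) - (f j : G → ℂ)) := by
  classical
  obtain ⟨o, q, hoq⟩ := htwo
  have hpair : ∀ i, i ≠ o → ∃ a b : Cfsg.IrrCharacter G, a ≠ b ∧ D o i = (a : G → ℂ) - (b : G → ℂ) := by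
    intro i hi
    refine norm_two_cases (hgen o i) ?_ (hone o i)
    rw [hinner]
    simp [hi, hi.symm]; norm_num
  choose a b hab hτo using hpair
  have hcross : ∀ i j (hi : i ≠ o) (hj : j ≠ o), i ≠ j →
      (a i hi = a j hj ∧ b i hi ≠ b j hj) ∨ (b i hi = b j hj ∧ a i hi ≠ a j hj) := by
    intro i j hi hj hij
    refine inner_pair_one (hab i hi) (hab j hj) ?_
    rw [← hτo i hi, ← hτo j hj, hinner]
    simp [hi, hi.symm, hj, hj.symm, hij]
  -- the common constituent
  have hcom : (∀ i j (hi : i ≠ o) (hj : j ≠ o), a i hi = a j hj) ∨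
      (∀ i j (hi : i ≠ o) (hj : j ≠ o), b i hi = b j hj) := by
    by_cases hA : ∀ i j (hi : i ≠ o) (hj : j ≠ o), a i hi = a j hj
    · exact Or.inl hA
    refine Or.inr ?_
    push Not at hA
    obtain ⟨i, j, hi, hj, hij⟩ := hA
    have hne : i ≠ j := fun h => hij (by subst h; rfl)
    have hbij : b i hi = b j hj := ((hcross i j hi hj hne).resolve_left fun h => hij h.1).1
    suffices hall : ∀ m (hm : m ≠ o), b m hm = b i hi from fun k l hk hl => (hall k hk).trans (hall l hl).symm
    intro m hm
    by_contra hmb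
    have hmi : m ≠ i := fun h => hmb (by subst h; rfl)
    have hmj : m ≠ j := fun h => hmb (by subst h; exact hbij.symm)
    have h1 := ((hcross m i hm hi hmi).resolve_right fun h => hmb h.1).1
    rcases hcross m j hm hj hmj with h2 | h2
    · exact hij (h1.symm.trans h2.1)
    · exact hmb (h2.1.trans hbij.symm)
  have hcase : ∃ (ε : ℂ) (p : Cfsg.IrrCharacter G) (g : ∀ i, i ≠ o → Cfsg.IrrCharacter G), (ε = 1 ∨ ε = -1) ∧
      (∀ i hi, g i hi ≠ p) ∧ (∀ i j hi hj, g i hi = g j hj → i = j) ∧
      (∀ i hi, D o i = ε • ((p : G → ℂ) - (g i hi : G → ℂ))) := by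
    rcases hcom with hc | hc
    · refine ⟨1, a q hoq.symm, b, Or.inl rfl, fun i hi => ?_, fun i j hi hj h => ?_, fun i hi => ?_⟩
      · rw [← hc i q hi hoq.symm]; exact (hab i hi).symm
      · by_contra hne
        rcases hcross i j hi hj hne with h' | h'
        · exact h'.2 h
        · exact h'.2 (hc i j hi hj)
      · rw [one_smul, ← hc i q hi hoq.symm, hτo]
    · refine ⟨-1, b q hoq.symm, a, Or.inr rfl, fun i hi => ?_, fun i j hi hj h => ?_, fun i hi => ?_⟩
      · rw [← hc i q hi hoq.symm]; exact hab i hi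
      · by_contra hne
        rcases hcross i j hi hj hne with h' | h'
        · exact h'.2 (hc i j hi hj)
        · exact h'.2 h
      · rw [← hc i q hi hoq.symm, hτo, neg_one_smul, neg_sub]
  obtain ⟨ε, p, g, hε, hgp, hginj, hg⟩ := hcase
  refine ⟨ε, fun i => if h : i = o then p else g i h, hε, fun i j h => ?_, ?_⟩
  · simp only at h
    split_ifs at h with h1 h2 h2
    · rw [h1, h2]
    · exact absurd h.symm (hgp j h2)
    · exact absurd h (hgp i h1)
    · exact hginj i j h1 h2 h
  have hoo : D o o = 0 := by simpa using hadd o o o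
  have hfo : ∀ i, D o i = ε • ((p : G → ℂ) - ((if h : i = o then p else g i h : Cfsg.IrrCharacter G) : G → ℂ)) := by
    intro i
    split_ifs with h
    · rw [h, hoo, sub_self, smul_zero]
    · exact hg i h
  intro i j
  have h1 := hadd i o j
  have h2 : D i o = -D o i := eq_neg_of_add_eq_zero_right (by rw [← hadd o i o, hoo])
  rw [h1, h2, hfo i, hfo j]
  simp only [smul_sub]
  abel


end CfsgLib.Exceptional
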