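import Mathlib
import Cfsg.Agent.Exceptional.FrobTI
import Cfsg.Agent.Exceptional.Coherence

/-! Values on a TI subgroup of the characters in a coherent family. -/

set_option autoImplicit false

namespace CfsgLib.Exceptional

open CfsgLib.CharBasics
open scoped ComplexConjugate

universe u

theorem gen_restrict {G : Type u} [Group G] (H : Subgroup G) {F : G → ℂ} (h : Cfsg.IsGeneralizedCharacter G F) :
    Cfsg.IsGeneralizedCharacter H (fun x : H => F x) := by
  obtain ⟨a, b, ha, hb, rfl⟩ := h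
  exact ⟨_, _, isCharacter_restrict ha H, isCharacter_restrict hb H, rfl⟩

variable {G : Type u} [Group G] [Fintype G] (K : Subgroup G)
  [Fintype ↥(Subgroup.normalizer (K : Set G))]

/-- On `K ∖ 1` a virtual character differs by an integer from the combination of the coherent family read off
from its scalar products with the images. -/
theorem coherent_values (hTI : ∀ g : G, g ∉ Subgroup.normalizer (K : Set G) → ∀ k ∈ K, g * k * g⁻¹ ∈ K → k = 1)
    (hC : ∀ k ∈ K, k ≠ 1 → Subgroup.centralizer ({k} : Set G) ≤ K)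
    (S : Set (↥(Subgroup.normalizer (K : Set G)) → ℂ))
    (hS : S = {χ : ↥(Subgroup.normalizer (K : Set G)) → ℂ | Cfsg.IsIrrCharacter ↥(Subgroup.normalizer (K : Set G)) χ ∧
      ∃ k : ↥(Subgroup.normalizer (K : Set G)), (k : G) ∈ K ∧ χ k ≠ χ 1})
    (hne : S.Nonempty) (star : (↥(Subgroup.normalizer (K : Set G)) → ℂ) → (G → ℂ))
    (hstar : Cfsg.IsLinearIsometryOn (Cfsg.zspan S) star)
    (hext : ∀ α ∈ Cfsg.zspanOn S ({1}ᶜ : Set ↥(Subgroup.normalizer (K : Set G))),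
      star α = Cfsg.indFun (Subgroup.normalizer (K : Set G)) α)
    [Fintype (Cfsg.IrrCharacter ↥(Subgroup.normalizer (K : Set G)))]
    [DecidablePred fun χ : Cfsg.IrrCharacter ↥(Subgroup.normalizer (K : Set G)) =>
      Rel (K.subgroupOf (Subgroup.normalizer (K : Set G))) (χ : ↥(Subgroup.normalizer (K : Set G)) → ℂ)]
    {F : G → ℂ} (hF : Cfsg.IsGeneralizedCharacter G F) :
    ∃ m : ℤ, ∀ k : ↥(Subgroup.normalizer (K : Set G)), (k : G) ∈ K → k ≠ 1 →
      F k = ∑ χ ∈ Finset.univ.filter (fun χ : Cfsg.IrrCharacter ↥(Subgroup.normalizer (K : Set G)) =>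
          Rel (K.subgroupOf (Subgroup.normalizer (K : Set G))) (χ : ↥(Subgroup.normalizer (K : Set G)) → ℂ)),
        Cfsg.classInner F (star χ) * (χ : ↥(Subgroup.normalizer (K : Set G)) → ℂ) k + m := by
  classical
  have hC' := centralizer_le_in_normalizer K hC
  have hmemS : ∀ χ : ↥(Subgroup.normalizer (K : Set G)) → ℂ, χ ∈ S ↔ Cfsg.IsIrrCharacter ↥(Subgroup.normalizer (K : Set G)) χ ∧ Rel (K.subgroupOf (Subgroup.normalizer (K : Set G))) χ := fun χ => by rw [hS]; rfl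
  have hS' : ∀ χ ∈ S, Cfsg.IsIrrCharacter ↥(Subgroup.normalizer (K : Set G)) χ ∧ Rel (K.subgroupOf (Subgroup.normalizer (K : Set G))) χ := fun χ h => (hmemS χ).1 h
  obtain ⟨ξ, hξ⟩ := hne
  set f : ↥(Subgroup.normalizer (K : Set G)) → ℂ := fun x => F x with hf
  have hfgen : Cfsg.IsGeneralizedCharacter ↥(Subgroup.normalizer (K : Set G)) f := gen_restrict (Subgroup.normalizer (K : Set G)) hF
  have hstar' : Cfsg.IsLinearIsometryOn ((Submodule.span ℤ S : Submodule ℤ (↥(Subgroup.normalizer (K : Set G)) → ℂ)) : Set (↥(Subgroup.normalizer (K : Set G)) → ℂ)) star := hstar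
  -- proportionality
  let d : (↥(Subgroup.normalizer (K : Set G)) → ℂ) → ℕ := Cfsg.charDegree
  have hd : ∀ χ ∈ S, χ 1 = ((d χ : ℤ) : ℂ) := fun χ h => by
    rw [apply_one (isCharacter_of_irr (hS' χ h).1)]; simp [d]
  set r : ℂ := (Cfsg.classInner f ξ - Cfsg.classInner F (star ξ)) / ξ 1 with hr
  have hrel : ∀ χ ∈ S, Cfsg.classInner f χ = Cfsg.classInner F (star χ) + r * χ 1 := by
    intro χ hχ
    have h1 : (d ξ : ℤ) • χ ∈ Submodule.span ℤ S := Submodule.smul_mem _ _ (Submodule.subset_span hχ)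
    have h2 : (d χ : ℤ) • ξ ∈ Submodule.span ℤ S := Submodule.smul_mem _ _ (Submodule.subset_span hξ)
    have hθ : (d ξ : ℤ) • χ - (d χ : ℤ) • ξ ∈ Cfsg.zspanOn S ({1}ᶜ : Set ↥(Subgroup.normalizer (K : Set G))) :=
      mem_on_one.2 ⟨sub_mem (S := Submodule ℤ (↥(Subgroup.normalizer (K : Set G)) → ℂ)) h1 h2, by simp [hd χ hχ, hd ξ hξ, mul_comm]⟩
    have h3 : Cfsg.classInner F (star ((d ξ : ℤ) • χ - (d χ : ℤ) • ξ))
        = Cfsg.classInner f ((d ξ : ℤ) • χ - (d χ : ℤ) • ξ) := by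
      rw [hext _ hθ, classInner_comm (Cfsg.indFun (Subgroup.normalizer (K : Set G)) _) F, classInner_indFun (Subgroup.normalizer (K : Set G)) _ (gen_isClassFunction hF),
        ← classInner_comm]
    rw [iso_sub hstar' h1 h2, iso_zsmul hstar' (Submodule.subset_span hχ), iso_zsmul hstar' (Submodule.subset_span hξ)] at h3
    simp only [classInner_sub_right, classInner_zsmul_right, ← hd χ hχ, ← hd ξ hξ] at h3
    have hξ1 : ξ 1 ≠ 0 := apply_one_ne_zero (hS' ξ hξ).1
    rw [hr]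
    field_simp
    linear_combination -h3
  obtain ⟨k₀, hk₀, hk₀'⟩ := (hS' ξ hξ).2
  have hK0 : (K.subgroupOf (Subgroup.normalizer (K : Set G))) ≠ ⊥ := fun h => hk₀' (by rw [h, Subgroup.mem_bot] at hk₀; rw [hk₀])
  -- integrality
  have hpex : ∀ χ : Cfsg.IrrCharacter ↥(Subgroup.normalizer (K : Set G)), ∃ p : ℕ, Rel (K.subgroupOf (Subgroup.normalizer (K : Set G))) (χ : ↥(Subgroup.normalizer (K : Set G)) → ℂ) →
      p ∣ Nat.card (K.subgroupOf (Subgroup.normalizer (K : Set G))) ∧ (χ : ↥(Subgroup.normalizer (K : Set G)) → ℂ) 1 = (((K.subgroupOf (Subgroup.normalizer (K : Set G))).index * p : ℕ) : ℂ) := fun χ => by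
    by_cases h : Rel (K.subgroupOf (Subgroup.normalizer (K : Set G))) (χ : ↥(Subgroup.normalizer (K : Set G)) → ℂ)
    · obtain ⟨-, p, -, h1, h2, -⟩ := rel_induced (K.subgroupOf (Subgroup.normalizer (K : Set G))) hC' χ.2 h
      exact ⟨p, fun _ => ⟨h1, h2⟩⟩
    · exact ⟨0, fun h' => absurd h' h⟩
  choose p hp using hpex
  obtain ⟨x, hx⟩ : ∃ x : ℤ, r * ((K.subgroupOf (Subgroup.normalizer (K : Set G))).index : ℂ) = x := by
    refine int_of_mul_nat (Finset.univ.filter fun χ : Cfsg.IrrCharacter ↥(Subgroup.normalizer (K : Set G)) => Rel (K.subgroupOf (Subgroup.normalizer (K : Set G))) (χ : ↥(Subgroup.normalizer (K : Set G)) → ℂ)) p (Nat.card (K.subgroupOf (Subgroup.normalizer (K : Set G))))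
      (K.subgroupOf (Subgroup.normalizer (K : Set G))).index Nat.card_pos (fun χ h => (hp χ (Finset.mem_filter.1 h).2).1)
      (rel_degree_identity (K.subgroupOf (Subgroup.normalizer (K : Set G))) hC' hK0 p fun χ h => (hp χ h).2)
      ⟨⟨ξ, (hS' ξ hξ).1⟩, by simp [(hS' ξ hξ).2]⟩ _ fun χ h => ?_
    have hrχ := (Finset.mem_filter.1 h).2
    have hχS : (χ : ↥(Subgroup.normalizer (K : Set G)) → ℂ) ∈ S := (hmemS _).2 ⟨χ.2, hrχ⟩
    obtain ⟨m₁, hm₁⟩ := gen_inner_int hfgen χ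
    obtain ⟨m₂, hm₂⟩ := gen_inner_gen_int hF (hstar.2.2.2 _ (Submodule.subset_span hχS))
    refine ⟨m₁ - m₂, ?_⟩
    have h4 := hrel _ hχS
    rw [hm₁, hm₂, (hp χ hrχ).2] at h4
    push_cast at h4 ⊢
    linear_combination -h4
  have hint : ∀ χ : Cfsg.IrrCharacter ↥(Subgroup.normalizer (K : Set G)), ∃ m : ℤ, Cfsg.classInner f (χ : ↥(Subgroup.normalizer (K : Set G)) → ℂ) = m := gen_inner_int hfgen
  choose c hc using hint
  refine ⟨(∑ χ ∈ Finset.univ.filter (fun χ : Cfsg.IrrCharacter ↥(Subgroup.normalizer (K : Set G)) => ¬ Rel (K.subgroupOf (Subgroup.normalizer (K : Set G))) (χ : ↥(Subgroup.normalizer (K : Set G)) → ℂ)),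
    c χ * (Cfsg.charDegree (χ : ↥(Subgroup.normalizer (K : Set G)) → ℂ) : ℤ)) - x, fun k hk hk1 => ?_⟩
  have hv := value_formula (K.subgroupOf (Subgroup.normalizer (K : Set G))) hC' f (gen_isClassFunction hfgen)
    (fun χ => Cfsg.classInner F (star χ)) r (fun χ h => hrel _ ((hmemS _).2 ⟨χ.2, h⟩)) (k := k) hk hk1
  have e : ∑ χ ∈ Finset.univ.filter (fun χ : Cfsg.IrrCharacter ↥(Subgroup.normalizer (K : Set G)) => ¬ Rel (K.subgroupOf (Subgroup.normalizer (K : Set G))) (χ : ↥(Subgroup.normalizer (K : Set G)) → ℂ)),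
      Cfsg.classInner f (χ : ↥(Subgroup.normalizer (K : Set G)) → ℂ) * (χ : ↥(Subgroup.normalizer (K : Set G)) → ℂ) 1
      = ((∑ χ ∈ Finset.univ.filter (fun χ : Cfsg.IrrCharacter ↥(Subgroup.normalizer (K : Set G)) => ¬ Rel (K.subgroupOf (Subgroup.normalizer (K : Set G))) (χ : ↥(Subgroup.normalizer (K : Set G)) → ℂ)),
          c χ * (Cfsg.charDegree (χ : ↥(Subgroup.normalizer (K : Set G)) → ℂ) : ℤ) : ℤ) : ℂ) := by
    push_cast
    exact Finset.sum_congr rfl fun χ _ => by rw [hc, apply_one (isCharacter_of_irr χ.2)]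
  rw [e, hx] at hv
  show f k = _
  rw [hv]
  push_cast; ring

end CfsgLib.Exceptional
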